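import Cfsg.Agent.JOneUnique.Model
import Cfsg.Agent.JOneUnique.Data.Collapse0
import Cfsg.Agent.JOneUnique.Data.Collapse1
import Cfsg.Agent.JOneUnique.Data.Collapse2
import Cfsg.Agent.JOneUnique.Data.Final

/-!
A configuration: an involution centralizer `C₂ × A₅` and an element of order seven normalizing the
elementary group of order 8.  The enumerations show that only the last commutation relation can
hold, and that two configurations with it are isomorphic.
-/

set_option autoImplicit false

namespace CfsgLib.JOneUnique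

open CfsgLib.CosetEnum CfsgLib.MTwelveUnique Pointwise

/-- A configuration. -/
structure Frame (G : Type*) [Group G] where
  ι : Mdl →* G
  g : G
  inj : Function.Injective ι
  range_eq : ι.range = Subgroup.centralizer {ι mc}
  seven : g ^ 7 = 1
  conj_gen : ∀ ab ∈ gGen, g⁻¹ * ι ab.1 * g = ι ab.2
  conj_x : ι mx * g * (ι mx)⁻¹ = g ^ 2

namespace Frame

variable {G : Type*} [Group G] (F : Frame G)

/-- Letters. -/
def gl (x : ℕ) : G := if x = 8 then F.g else if x = 9 then F.g⁻¹ else F.ι (letM x)

theorem gl_eps : F.gl 12 = 1 := by simp [gl, letM]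

theorem gl_iv : ∀ x, x < 12 → F.gl (Nat.xor x 1) = (F.gl x)⁻¹ := by
  intro x hx
  have hinv : ∀ m m' : Mdl, m = m'⁻¹ → F.ι m = (F.ι m')⁻¹ := fun m m' hm => by rw [hm, map_inv]
  interval_cases x
  · exact hinv _ _ (by decide +kernel)
  · exact hinv _ _ (by decide +kernel)
  · exact hinv _ _ (by decide +kernel)
  · exact hinv _ _ (by decide +kernel)
  · exact hinv _ _ (by decide +kernel)
  · exact hinv _ _ (by decide +kernel)
  · exact hinv _ _ (by decide +kernel)
  · exact hinv _ _ (by decide +kernel)
  · simp [gl, show Nat.xor 8 1 = 9 from rfl]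
  · simp [gl, show Nat.xor 9 1 = 8 from rfl]
  · simp [gl, show Nat.xor 10 1 = 11 from rfl, letM]
  · simp [gl, show Nat.xor 11 1 = 10 from rfl, letM]

theorem prodw_model (w : List ℕ) (h : ∀ x ∈ w, x ≠ 8 ∧ x ≠ 9) :
    prodw F.gl w = F.ι (wordM w) := by
  induction w with
  | nil => simp [prodw, wordM]
  | cons x w ih =>
    have hx := h x List.mem_cons_self
    rw [prodw_cons, ih fun y hy => h y (List.mem_cons_of_mem x hy)]
    simp [gl, hx.1, hx.2, wordM]

theorem rels_hold {k : ℕ} (hk : prodw F.gl (candRels.getD k []) = 1) :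
    ∀ w ∈ relsOf k, prodw F.gl w = 1 := by
  intro w hw
  rcases List.mem_append.1 hw with hw | hw
  · rcases List.mem_append.1 hw with hw | hw
    · rw [F.prodw_model w fun x hx => ⟨by have := letters_small w hw x hx; omega,
        by have := letters_small w hw x hx; omega⟩, modelRels_eq_one w hw, map_one]
    · -- the relations of `g`
      have hconj : ∀ u v : List ℕ, (∀ x ∈ u, x ≠ 8 ∧ x ≠ 9) → (∀ x ∈ v, x ≠ 8 ∧ x ≠ 9) →
          (wordM u, (wordM v)⁻¹) ∈ gGen → prodw F.gl ([9] ++ u ++ [8] ++ v) = 1 := by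
        intro u v hu hv hm
        have h := F.conj_gen _ hm
        rw [map_inv] at h
        rw [prodw_append, prodw_append, prodw_append, F.prodw_model u hu, F.prodw_model v hv]
        simp only [prodw, List.map_cons, List.map_nil, List.prod_cons, List.prod_nil, mul_one, gl,
          if_pos, if_neg (show ¬ (9 = 8) by norm_num)]
        rw [mul_assoc F.g⁻¹] at h ⊢
        rw [h, inv_mul_cancel]
      simp only [sevenRels, List.mem_cons, List.not_mem_nil, or_false] at hw
      rcases hw with rfl | rfl | rfl | rfl | rfl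
      · have h := F.seven
        simpa [prodw, gl, pow_succ, mul_assoc] using h
      · exact hconj [4] [2, 1, 3] (by decide) (by decide) (by decide +kernel)
      · exact hconj [0] [5, 1] (by decide) (by decide) (by decide +kernel)
      · exact hconj [2, 0, 3] [3, 1, 2] (by decide) (by decide) (by decide +kernel)
      · have h := F.conj_x
        rw [pow_two] at h
        simp only [prodw, List.map_cons, List.map_nil, List.prod_cons, List.prod_nil, mul_one, gl,
          if_pos, if_neg (show ¬ (9 = 8) by norm_num), if_neg (show ¬ (2 = 8) by norm_num),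
          if_neg (show ¬ (2 = 9) by norm_num), if_neg (show ¬ (3 = 8) by norm_num),
          if_neg (show ¬ (3 = 9) by norm_num), letM, map_inv]
        rw [← mul_assoc, ← mul_assoc, h]
        group
  · rw [List.mem_singleton.1 hw]
    exact hk

theorem subs_mem : ∀ w ∈ subs, prodw F.gl w ∈ F.ι.range := by
  intro w hw
  simp only [subs, List.mem_cons, List.not_mem_nil, or_false] at hw
  rcases hw with rfl | rfl | rfl | rfl <;> exact ⟨_, (F.prodw_model _ (by decide)).symm⟩

theorem g_notMem : F.g ∉ F.ι.range := by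
  intro h
  rw [F.range_eq, Subgroup.mem_centralizer_singleton_iff] at h
  have h1 := F.conj_gen (mc, wordM [2, 0, 3]) (by simp [gGen])
  dsimp only at h1
  rw [mul_assoc, ← h, inv_mul_cancel_left] at h1
  exact (show mc ≠ wordM [2, 0, 3] by decide +kernel) (F.inj h1)

/-- The first three commutation relations fail. -/
theorem loop_ge_three {k : ℕ} (hk : k < 3) : prodw F.gl (candRels.getD k []) ≠ 1 := by
  intro h
  have hR := F.rels_hold h
  have key : ∀ (C : Cert) (S : ℕ), (C.ok (relsOf k) subs && C.reads [8] 0 0 S) = true → False := by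
    intro C S hc
    obtain ⟨h1, h2⟩ := Bool.and_eq_true_iff.1 hc
    have := Cert.prodw_mem F.gl_iv F.gl_eps hR F.subs_mem h1 h2
    exact F.g_notMem (by simpa [prodw, gl] using this)
  interval_cases k
  · exact key _ _ collapse0_check
  · exact key _ _ collapse1_check
  · exact key _ _ collapse2_check

theorem card_range : Nat.card F.ι.range = 120 := by
  rw [← Nat.card_congr (MonoidHom.ofInjective F.inj).toEquiv, mdl_card]

theorem range_le_closure {G : Type*} [Group G] (F : Frame G) :
    F.ι.range ≤ Subgroup.closure (Set.range fun x : Fin 5 => F.gl (2 * x.val)) := by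
  rintro _ ⟨m, rfl⟩
  obtain ⟨w, hw, rfl⟩ := allWords_cover m
  have hsmall := allWords_small w hw
  rw [← F.prodw_model w fun x hx => ⟨by have := hsmall x hx; omega, by have := hsmall x hx; omega⟩]
  refine Subgroup.list_prod_mem _ fun y hy => ?_
  obtain ⟨x, hx, rfl⟩ := List.mem_map.1 hy
  have h8 := hsmall x hx
  rcases Nat.even_or_odd' x with ⟨i, rfl | rfl⟩
  · exact Subgroup.subset_closure ⟨⟨i, by omega⟩, rfl⟩
  · have h := F.gl_iv (2 * i) (by omega)
    have hx1 : Nat.xor (2 * i) 1 = 2 * i + 1 := by
      have : i < 4 := by omega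
      interval_cases i <;> rfl
    rw [hx1] at h
    rw [h]
    exact inv_mem (Subgroup.subset_closure ⟨⟨i, by omega⟩, rfl⟩)

section Compare

variable {G H : Type*} [Group G] [Group H]

/-- Two configurations with the last relation whose generators generate are isomorphic. -/
theorem nonempty_equiv [Finite G] [Finite H] (F : Frame G) (F' : Frame H)
    (hF : prodw F.gl (candRels.getD 3 []) = 1) (hF' : prodw F'.gl (candRels.getD 3 []) = 1)
    (hgF : Subgroup.closure (Set.range fun x : Fin 5 => F.gl (2 * x.val)) = ⊤)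
    (hgF' : Subgroup.closure (Set.range fun x : Fin 5 => F'.gl (2 * x.val)) = ⊤)
    (hcG : Nat.card G = 175560) (hcH : Nat.card H = 175560) : Nonempty (G ≃* H) := by
  classical
  let gl : ℕ → G × H := fun x => (F.gl x, F'.gl x)
  let Q : Subgroup (G × H) := (F.ι.prod F'.ι).range
  have hiv : ∀ x, x < 12 → gl (Nat.xor x 1) = (gl x)⁻¹ := fun x hx =>
    Prod.ext (F.gl_iv x hx) (F'.gl_iv x hx)
  have heps : gl 12 = 1 := Prod.ext F.gl_eps F'.gl_eps
  have hpw : ∀ w, prodw gl w = (prodw F.gl w, prodw F'.gl w) := by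
    intro w
    induction w with
    | nil => rfl
    | cons x w ih => rw [prodw_cons, prodw_cons, prodw_cons, ih]; rfl
  have hR : ∀ w ∈ relsOf 3, prodw gl w = 1 := fun w hw => by
    rw [hpw, F.rels_hold hF w hw, F'.rels_hold hF' w hw]; rfl
  have hW : ∀ w ∈ subs, prodw gl w ∈ Q := by
    intro w hw
    have hsmall := (show ∀ w ∈ subs, ∀ x ∈ w, x ≠ 8 ∧ x ≠ 9 by decide) w hw
    rw [hpw, F.prodw_model w hsmall, F'.prodw_model w hsmall]
    exact ⟨_, rfl⟩
  let L : Fin 5 → G × H := fun x => gl (2 * x.val)
  let D := Subgroup.closure (Set.range L)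
  let c : ℕ → G × H := fun i => crOf gl finalCert.parN finalCert.parX (ext finalReps i)
  let f : Fin 1463 → (G × H) ⧸ Q := fun i => (((c i)⁻¹ : G × H) : (G × H) ⧸ Q)
  have hf0 : f 0 = ((1 : G × H) : (G × H) ⧸ Q) := by
    show (((c 0)⁻¹ : G × H) : (G × H) ⧸ Q) = _
    simp only [c, show ext finalReps 0 = 0 by decide +kernel, crOf_zero, inv_one]
  have hstep : ∀ (x : Fin 5) (i : Fin 1463), ∃ j, L x • f j = f i := by
    intro x i
    have h := final_edge x.2 i.2
    simp only [edgeOK, edgeP, Bool.and_eq_true, Nat.blt_eq] at h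
    refine ⟨⟨_, h.1⟩, ?_⟩
    have hm := Cert.mem_of_reads hiv heps hR hW final_ok h.2
    show (((gl (2 * x.val)) * (c (ext (finalTab.getD x 0) i))⁻¹ : G × H) : (G × H) ⧸ Q) = (((c i)⁻¹ : G × H) : (G × H) ⧸ Q)
    rw [QuotientGroup.eq]
    have := Q.inv_mem hm
    simpa [prodw, c, mul_assoc] using this
  let S : Set ((G × H) ⧸ Q) := Set.range f
  have hstab : D ≤ MulAction.stabilizer (G × H) S := by
    rw [Subgroup.closure_le]
    rintro _ ⟨x, rfl⟩
    show L x • S = S
    refine (Set.eq_of_subset_of_ncard_le ?_ ?_ (Set.toFinite _)).symm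
    · rintro _ ⟨i, rfl⟩
      obtain ⟨j, hj⟩ := hstep x i
      exact ⟨f j, ⟨j, rfl⟩, hj⟩
    · rw [show L x • S = (fun q => L x • q) '' S from rfl,
        Set.ncard_image_of_injective _ (MulAction.injective _)]
  -- `D` is small
  have hQc : Nat.card Q = 120 := by
    rw [← Nat.card_congr (MonoidHom.ofInjective (f := F.ι.prod F'.ι) fun a b h =>
      F.inj (congrArg Prod.fst h)).toEquiv, mdl_card]
  have hD : Nat.card D ≤ 175560 := by
    have h1 : Nat.card ((fun y : G × H => (y : (G × H) ⧸ Q)) '' (D : Set (G × H))) ≤ 1463 := by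
      refine (Nat.card_mono (Set.toFinite _) (t := S) ?_).trans ?_
      · rintro _ ⟨y, hy, rfl⟩
        have hmem : y • f 0 ∈ y • S := Set.smul_mem_smul_set ⟨0, rfl⟩
        rw [show y • S = S from hstab hy, hf0, MulAction.Quotient.smul_coe, smul_eq_mul, mul_one] at hmem
        exact hmem
      · exact (Nat.card_le_card_of_surjective (Set.rangeFactorization f)
          Set.rangeFactorization_surjective).trans_eq (Nat.card_fin _)
    let ψ : D → ((fun y : G × H => (y : (G × H) ⧸ Q)) '' (D : Set (G × H))) × Q := fun y =>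
      (⟨_, y, y.2, rfl⟩, ⟨((y : G × H) : (G × H) ⧸ Q).out⁻¹ * y,
        QuotientGroup.eq.1 (QuotientGroup.out_eq' _)⟩)
    have hψ : Function.Injective ψ := by
      intro a b h
      have e1 : ((a : G × H) : (G × H) ⧸ Q) = ((b : G × H) : (G × H) ⧸ Q) :=
        congrArg (fun p => (p.1 : (G × H) ⧸ Q)) h
      have e2 : ((a : G × H) : (G × H) ⧸ Q).out⁻¹ * a = ((b : G × H) : (G × H) ⧸ Q).out⁻¹ * b :=
        congrArg (fun p => ((p.2 : Q) : G × H)) h
      rw [e1] at e2
      exact Subtype.ext (mul_left_cancel e2)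
    have h2 := Nat.card_le_card_of_injective ψ hψ
    rw [Nat.card_prod, hQc] at h2
    omega
  -- the projections
  have hsG : Function.Surjective ((MonoidHom.fst G H).comp D.subtype) := by
    rw [← MonoidHom.range_eq_top, MonoidHom.range_comp, Subgroup.range_subtype, eq_top_iff, ← hgF,
      MonoidHom.map_closure, ← Set.range_comp]
    rfl
  have hsH : Function.Surjective ((MonoidHom.snd G H).comp D.subtype) := by
    rw [← MonoidHom.range_eq_top, MonoidHom.range_comp, Subgroup.range_subtype, eq_top_iff, ← hgF',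
      MonoidHom.map_closure, ← Set.range_comp]
    rfl
  exact ⟨(MulEquiv.ofBijective _ (hsG.bijective_of_nat_card_le (hcG.symm ▸ hD))).symm.trans
    (MulEquiv.ofBijective _ (hsH.bijective_of_nat_card_le (hcH.symm ▸ hD)))⟩

end Compare

end Frame

end CfsgLib.JOneUnique
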