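import Cfsg.Agent.JOneUnique.Loop
import Mathlib.GroupTheory.Perm.Cycle.Type

/-!
The involution centralizer and the element of order seven generate the group.
-/

set_option autoImplicit false
set_option linter.style.haveILetI false

namespace CfsgLib.JOneUnique

open CfsgLib.CosetEnum CfsgLib.MTwelveUnique CfsgLib.J1Order Equiv Pointwise

set_option synthInstance.maxSize 1024

theorem card_invols : Fintype.card {m : Mdl // m * m = 1 ∧ m ≠ 1} = 31 := by decide +kernel

theorem emN_zero : emN 0 = 1 := by decide +kernel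

theorem seven_orbit : ∀ n : Fin 8, n ≠ 0 → ∃ i : Fin 7, (lin 4 3 6)^[i.val] 1 = n := by
  decide +kernel

theorem lin436_lt : ∀ n : Fin 8, lin 4 3 6 n < 8 := by decide +kernel

variable {G : Type*} [Group G]

/-- Conjugation by `g` on the elementary group of order 8. -/
theorem conj_emN (F : Frame G) (n : Fin 8) :
    F.g⁻¹ * F.ι (emN n) * F.g = F.ι (emN (lin 4 3 6 n)) := by
  have h1 := F.conj_gen (emN 1, emN 4) (by rw [gGen_eq]; simp)
  have h2 := F.conj_gen (emN 2, emN 3) (by rw [gGen_eq]; simp)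
  have h4 := F.conj_gen (emN 4, emN 6) (by rw [gGen_eq]; simp)
  have e : ∀ z, F.g⁻¹ * z * F.g = MulAut.conj F.g⁻¹ z := fun z => by simp
  dsimp only at h1 h2 h4
  rw [e] at h1 h2 h4
  have e1 : ∀ k : ℕ, emN k = emN 1 ^ (k % 2) * emN 2 ^ (k / 2 % 2) * emN 4 ^ (k / 4 % 2) :=
    fun k => by simp [emN]
  have e2 : emN (lin 4 3 6 n) =
      emN 4 ^ (n.val % 2) * emN 3 ^ (n.val / 2 % 2) * emN 6 ^ (n.val / 4 % 2) :=
    emN_lin 4 3 6 n
  rw [e, e2, e1 n]
  simp only [map_mul, map_pow, h1, h2, h4]

variable [Finite G] [IsSimpleGroup G]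

theorem closure_eq_top (S : Setting G) (F : Frame G) (hF : F.ι = S.phi) :
    Subgroup.closure (Set.range fun x : Fin 5 => F.gl (2 * x.val)) = ⊤ := by
  classical
  haveI : Fact (Nat.Prime 2) := ⟨Nat.prime_two⟩
  set K := Subgroup.closure (Set.range fun x : Fin 5 => F.gl (2 * x.val)) with hK
  have hgK : F.g ∈ K := Subgroup.subset_closure ⟨4, by simp [Frame.gl]⟩
  set C := Subgroup.centralizer ({S.t} : Set G) with hCdef
  have hCK : C ≤ K := by
    rw [hCdef, ← S.range, ← hF]
    exact F.range_le_closure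
  have hC : Nat.card C = 120 := by
    rw [hCdef, ← S.range, ← hF]
    exact F.card_range
  have htK : S.t ∈ K := hCK (Subgroup.mem_centralizer_singleton_iff.2 rfl)
  -- every involution of `K` is conjugate to `t` in `K`
  have hPK : (S.P₀ : Subgroup G) ≤ K := by
    rintro _ ⟨m, -, rfl⟩
    exact hCK (Subgroup.mem_centralizer_singleton_iff.2 (S.comm_t m))
  have hone : ∀ u ∈ K, u * u = 1 → u ≠ 1 → ∃ k ∈ K, k * S.t * k⁻¹ = u := by
    intro u hu huu hu1
    let uK : K := ⟨u, hu⟩
    have hord : orderOf uK = 2 := by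
      rw [← Subgroup.orderOf_coe]
      exact orderOf_eq_prime (by rw [pow_two]; exact huu) hu1
    obtain ⟨Q, hQ⟩ := (IsPGroup.of_card (p := 2) (n := 1) (G := Subgroup.zpowers uK)
      (by rw [Nat.card_zpowers, hord, pow_one])).exists_le_sylow
    obtain ⟨w, hw⟩ := MulAction.exists_smul_eq K Q (S.P₀.subtype hPK)
    have hmem : w * uK * w⁻¹ ∈ (S.P₀.subtype hPK : Subgroup K) := by
      rw [← hw, Sylow.smul_def, Sylow.pointwise_smul_def]
      exact ⟨uK, hQ (Subgroup.mem_zpowers uK), rfl⟩
    rw [Sylow.coe_subtype, Subgroup.mem_subgroupOf] at hmem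
    obtain ⟨m, hm, hm'⟩ := hmem
    simp only [Subgroup.coe_mul, Subgroup.coe_inv] at hm'
    change S.phi m = (w : G) * u * (w : G)⁻¹ at hm'
    obtain ⟨n, rfl⟩ := emN_facts.2.1 m hm
    have hn0 : n ≠ 0 := by
      rintro rfl
      rw [show emN ((0 : Fin 8) : ℕ) = 1 from emN_zero, map_one] at hm'
      exact hu1 (conj_eq_one_iff.1 hm'.symm)
    obtain ⟨i, hi⟩ := seven_orbit n hn0
    have hiter : ∀ j : ℕ, (F.g ^ j)⁻¹ * S.t * F.g ^ j = F.ι (emN ((lin 4 3 6)^[j] 1)) ∧
        (lin 4 3 6)^[j] 1 < 8 := by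
      intro j
      induction j with
      | zero =>
        refine ⟨?_, by simp⟩
        rw [hF, Function.iterate_zero_apply, ← show mc = emN 1 from d_facts.2.2.2.1,
          show S.phi mc = S.t from S.phi_T]
        simp
      | succ j ih =>
        obtain ⟨h1, h2⟩ := ih
        rw [Function.iterate_succ_apply']
        refine ⟨?_, lin436_lt ⟨_, h2⟩⟩
        rw [← conj_emN F ⟨_, h2⟩, ← h1, pow_succ]
        group
    refine ⟨(w : G)⁻¹ * (F.g ^ i.val)⁻¹, K.mul_mem (K.inv_mem w.2) (K.inv_mem (K.pow_mem hgK _)), ?_⟩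
    have h := (hiter i.val).1
    rw [hi, hF, hm'] at h
    calc (w : G)⁻¹ * (F.g ^ i.val)⁻¹ * S.t * ((w : G)⁻¹ * (F.g ^ i.val)⁻¹)⁻¹
        = (w : G)⁻¹ * ((F.g ^ i.val)⁻¹ * S.t * F.g ^ i.val) * w := by group
      _ = u := by rw [h]; group
  -- the index
  have h7 : orderOf F.g = 7 := by
    haveI : Fact (Nat.Prime 7) := ⟨by norm_num⟩
    exact orderOf_eq_prime F.seven fun h => F.g_notMem (h ▸ Subgroup.one_mem _)
  have d7 : 7 ∣ Nat.card K := h7 ▸ K.orderOf_dvd_natCard hgK
  have d120 : 120 ∣ Nat.card K := hC ▸ Subgroup.card_dvd_of_le hCK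
  have d840 : 840 ∣ Nat.card K :=
    (show 840 = Nat.lcm 120 7 by decide) ▸ Nat.lcm_dvd d120 d7
  have hmul := K.card_mul_index
  rw [card_eq S] at hmul
  obtain ⟨r, hr⟩ := d840
  have hidx : r * K.index = 209 := by rw [hr, mul_assoc] at hmul; omega
  have hdvd : K.index ∈ Nat.divisors 209 := Nat.mem_divisors.2 ⟨Dvd.intro_left r hidx, by norm_num⟩
  rw [show Nat.divisors 209 = {1, 11, 19, 209} by decide] at hdvd
  simp only [Finset.mem_insert, Finset.mem_singleton] at hdvd
  -- a single fixed point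
  have hodd : ∀ l : ℕ, K.index = 2 * l + 1 → Odd l → False := by
    intro l hl hlo
    haveI : Fintype (G ⧸ K) := Fintype.ofFinite _
    let σ : Equiv.Perm (G ⧸ K) := MulAction.toPermHom G (G ⧸ K) S.t
    have hfix : ∀ q : G ⧸ K, σ q = q ↔ q = ((1 : G) : G ⧸ K) := by
      intro q
      obtain ⟨x, rfl⟩ := QuotientGroup.mk_surjective q
      show ((S.t * x : G) : G ⧸ K) = ((x : G) : G ⧸ K) ↔ _
      constructor
      · intro h
        have hc : x⁻¹ * S.t * x ∈ K := by
          have := QuotientGroup.eq.1 h.symm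
          rwa [← mul_assoc] at this
        obtain ⟨k, hk, hk'⟩ := hone _ hc
          (by rw [show x⁻¹ * S.t * x * (x⁻¹ * S.t * x) = x⁻¹ * (S.t * S.t) * x by group,
            S.t_mul_t]; group)
          (fun h' => S.t_ne_one (by
            rw [show S.t = x * (x⁻¹ * S.t * x) * x⁻¹ by group, h']; group))
        refine QuotientGroup.eq.2 ?_
        rw [mul_one]
        refine K.inv_mem ?_
        have hxk : x * k ∈ K := hCK (Subgroup.mem_centralizer_singleton_iff.2 (by
          calc x * k * S.t = x * (k * S.t * k⁻¹) * k := by group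
            _ = x * (x⁻¹ * S.t * x) * k := by rw [hk']
            _ = S.t * (x * k) := by group))
        simpa using K.mul_mem hxk (K.inv_mem hk)
      · intro h
        rw [h]
        have hx : x ∈ K := by simpa using QuotientGroup.eq.1 h.symm
        refine (QuotientGroup.eq.2 ?_).trans h
        rw [show (S.t * x)⁻¹ * x = x⁻¹ * S.t⁻¹ * x by group]
        exact K.mul_mem (K.mul_mem (K.inv_mem hx) (K.inv_mem htK)) hx
    have hsupp : σ.support.card = 2 * l := by
      have : σ.support = Finset.univ.erase ((1 : G) : G ⧸ K) := by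
        ext q
        simp [hfix]
      rw [this, Finset.card_erase_of_mem (Finset.mem_univ _), Finset.card_univ,
        ← Nat.card_eq_fintype_card]
      change K.index - 1 = 2 * l
      omega
    have hord : orderOf σ = 2 := by
      refine orderOf_eq_prime ?_ fun h => ?_
      · rw [← map_pow, pow_two, S.t_mul_t, map_one]
      · rw [h, Equiv.Perm.support_one, Finset.card_empty] at hsupp
        obtain ⟨i, rfl⟩ := hlo
        omega
    obtain ⟨n, hn⟩ := Equiv.Perm.cycleType_prime_order (hord ▸ Nat.prime_two)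
    have hsum := Equiv.Perm.sum_cycleType σ
    rw [hn, hord, Multiset.sum_replicate, hsupp, smul_eq_mul] at hsum
    have hsign : Equiv.Perm.sign σ = -1 := by
      rw [Equiv.Perm.sign_of_cycleType, hn, hord, Multiset.sum_replicate, Multiset.card_replicate,
        smul_eq_mul]
      exact Odd.neg_one_pow (by obtain ⟨i, rfl⟩ := hlo; exact ⟨3 * i + 1, by omega⟩)
    let sgn : G →* ℤˣ := Equiv.Perm.sign.comp (MulAction.toPermHom G (G ⧸ K))
    rcases IsSimpleGroup.eq_bot_or_eq_top_of_normal sgn.ker inferInstance with h | h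
    · have hle := Nat.card_le_card_of_injective sgn ((MonoidHom.ker_eq_bot_iff sgn).1 h)
      rw [card_eq S, Nat.card_eq_fintype_card, Fintype.card_units_int] at hle
      omega
    · have h1 : sgn S.t = 1 := MonoidHom.mem_ker.1 (h ▸ Subgroup.mem_top S.t)
      change Equiv.Perm.sign σ = 1 at h1
      rw [hsign] at h1
      exact absurd h1 (by decide)
  rcases hdvd with h | h | h | h
  · exact Subgroup.index_eq_one.1 h
  · exact (hodd 5 h (by decide)).elim
  · exact (hodd 9 h (by decide)).elim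
  · exfalso
    have hK840 : Nat.card K = 840 := by rw [h] at hidx; omega
    have hq : Nat.card (K ⧸ C.subgroupOf K) = 7 := by
      have h' := Subgroup.card_eq_card_quotient_mul_card_subgroup (C.subgroupOf K)
      rw [Nat.card_congr (Subgroup.subgroupOfEquivOfLe hCK).toEquiv, hC, hK840] at h'
      omega
    have hw : ∀ m : {m : Mdl // m * m = 1 ∧ m ≠ 1}, ∃ k : K, (k : G) * S.t * (k : G)⁻¹ = S.phi m.1 :=
      fun m => by
        obtain ⟨k, hk, hk'⟩ := hone (S.phi m.1)
          (hCK (Subgroup.mem_centralizer_singleton_iff.2 (S.comm_t m.1)))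
          (by rw [← map_mul, m.2.1, map_one]) fun h' => m.2.2 (S.inj (h'.trans (map_one _).symm))
        exact ⟨⟨k, hk⟩, hk'⟩
    choose w hw' using hw
    have hle := Nat.card_le_card_of_injective (fun m => (w m : K ⧸ C.subgroupOf K)) fun a b hab => by
      have h' := Subgroup.mem_centralizer_singleton_iff.1
        (Subgroup.mem_subgroupOf.1 (QuotientGroup.eq.1 hab))
      simp only [Subgroup.coe_mul, Subgroup.coe_inv] at h'
      refine Subtype.ext (S.inj ?_)
      rw [← hw' a, ← hw' b]
      calc (w a : G) * S.t * (w a : G)⁻¹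
          = (w a : G) * (S.t * ((w a : G)⁻¹ * w b)) * (w b : G)⁻¹ := by group
        _ = (w a : G) * (((w a : G)⁻¹ * w b) * S.t) * (w b : G)⁻¹ := by rw [h']
        _ = (w b : G) * S.t * (w b : G)⁻¹ := by group
    rw [hq, Nat.card_eq_fintype_card, card_invols] at hle
    omega

end CfsgLib.JOneUnique
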