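import Cfsg.Agent.JOneUnique.Frame
import Cfsg.Agent.J1Order.Main

/-!
From an involution centralizer `C₂ × A₅` in a simple group to a configuration: the element of
order seven in the normalizer of a Sylow 2-subgroup.
-/

set_option autoImplicit false
set_option linter.style.haveILetI false

namespace CfsgLib.JOneUnique

open CfsgLib.CosetEnum CfsgLib.MTwelveUnique CfsgLib.J1Order Equiv Pointwise

set_option synthInstance.maxSize 1024

/-- Conjugation of the second factor by `(01)`. -/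
def twist : Mdl →* Mdl :=
  MonoidHom.prodMap (MonoidHom.id _)
    (MulAut.conjNormal (H := alternatingGroup (Fin 5)) (swap 0 1)).toMonoidHom

theorem twist_twist : ∀ m, twist (twist m) = m := by decide +kernel

theorem twist_facts : twist mc = mc ∧ twist mx = mx⁻¹ := by decide +kernel

theorem twist_mem_mP : ∀ m, twist m ∈ mP ↔ m ∈ mP := by decide +kernel

/-- The elements of the elementary group of order 8. -/
def emN (n : ℕ) : Mdl := mc ^ (n % 2) * mv ^ (n / 2 % 2) * wordM [2, 0, 3] ^ (n / 4 % 2)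

/-- A linear map on the indices. -/
def lin (A B D n : ℕ) : ℕ :=
  Nat.xor (Nat.xor (if n % 2 = 1 then A else 0) (if n / 2 % 2 = 1 then B else 0))
    (if n / 4 % 2 = 1 then D else 0)

theorem emN_facts : (∀ n : Fin 8, emN n ∈ mP) ∧ (∀ m ∈ mP, ∃ n : Fin 8, emN n = m) ∧
    (∀ n k : Fin 8, emN n = emN k → n = k) := by
  decide +kernel

theorem emN_xor : ∀ a b : Fin 8, emN (Nat.xor a b) = emN a * emN b := by decide +kernel

theorem xor_lt : ∀ a b : Fin 8, Nat.xor a b < 8 := by decide +kernel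

theorem lin_lt : ∀ A B D n : Fin 8, lin A B D n < 8 := by decide +kernel

theorem emN_lin (A B D : Fin 8) (n : ℕ) :
    emN (lin A B D n) = emN A ^ (n % 2) * emN B ^ (n / 2 % 2) * emN D ^ (n / 4 % 2) := by
  have h0 : emN 0 = 1 := by decide +kernel
  have hx : ∀ a b : ℕ, a < 8 → b < 8 → emN (Nat.xor a b) = emN a * emN b := fun a b ha hb =>
    emN_xor ⟨a, ha⟩ ⟨b, hb⟩
  have hpow : ∀ (i : ℕ) (C : Fin 8),
      emN (if i % 2 = 1 then (C : ℕ) else 0) = emN C ^ (i % 2) := by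
    intro i C
    rcases Nat.mod_two_eq_zero_or_one i with h | h <;> simp [h, h0]
  have hlt : ∀ (i : ℕ) (C : Fin 8), (if i % 2 = 1 then (C : ℕ) else 0) < 8 := by
    intro i C; split <;> omega
  have h1 : Nat.xor (if n % 2 = 1 then (A : ℕ) else 0) (if n / 2 % 2 = 1 then (B : ℕ) else 0) < 8 :=
    xor_lt ⟨_, hlt n A⟩ ⟨_, hlt (n / 2) B⟩
  rw [lin, hx _ _ h1 (hlt _ D), hx _ _ (hlt _ A) (hlt _ B), hpow, hpow, hpow]

theorem seven_powers : ∀ A B D : Fin 8,
    (∀ n : Fin 8, n ≠ 0 → lin A B D n ≠ n ∧ lin A B D n ≠ 0) →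
    (∀ n : Fin 8, lin A B D (lin A B D n) = lin 1 4 6 (lin A B D (lin 1 6 2 n))) →
    ∃ k : Fin 7, k.val ≠ 0 ∧ ∀ n : Fin 8, (lin A B D)^[k.val] n = lin 4 3 6 n := by
  decide +kernel

theorem emN_sigma : ∀ n : Fin 8, mx * emN n * mx⁻¹ = emN (lin 1 4 6 n) ∧
    mx⁻¹ * emN n * mx = emN (lin 1 6 2 n) := by
  decide +kernel

theorem gGen_eq : gGen = [(emN 1, emN 4), (emN 2, emN 3), (emN 4, emN 6)] := by
  simp only [gGen, List.cons.injEq, Prod.mk.injEq, and_true]
  exact ⟨⟨by decide +kernel, by decide +kernel⟩, ⟨by decide +kernel, by decide +kernel⟩,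
    by decide +kernel, by decide +kernel⟩

theorem gGen_emN : ∀ ab ∈ gGen, ∃ n : Fin 8, ab.1 = emN n ∧ ab.2 = emN (lin 4 3 6 n) := by
  intro ab h
  rw [gGen_eq] at h
  simp only [List.mem_cons, List.not_mem_nil, or_false] at h
  rcases h with rfl | rfl | rfl
  · exact ⟨1, rfl, rfl⟩
  · exact ⟨2, rfl, rfl⟩
  · exact ⟨4, rfl, rfl⟩

theorem card_stab_mP :
    Fintype.card {m : Mdl // ∀ n : Fin 8, m * emN n * m⁻¹ ∈ mP} = 24 := by
  decide +kernel

theorem stab_iff_aux : ∀ m : Mdl, (∀ n : Fin 8, m * emN n * m⁻¹ ∈ mP) →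
    ∀ a : Mdl, a ∈ mP ↔ m * a * m⁻¹ ∈ mP := by
  decide +kernel

theorem stab_iff (m : Mdl) :
    (∀ n : Fin 8, m * emN n * m⁻¹ ∈ mP) ↔ ∀ a : Mdl, a ∈ mP ↔ m * a * m⁻¹ ∈ mP :=
  ⟨stab_iff_aux m, fun h n => (h _).1 (emN_facts.1 n)⟩

theorem fixed_mx : ∀ m ∈ mP, m ≠ 1 → mx * m * mx⁻¹ = m → m = mc := by decide +kernel

theorem seven_pow_one : ∀ m : Mdl, m ^ 7 = 1 → m = 1 := by decide +kernel

variable {G : Type*} [Group G]

/-- The setting seen through the automorphism of the model. -/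
def twistSetting (S : Setting G) : Setting G where
  t := S.t
  phi := S.phi.comp twist
  inj := S.inj.comp fun a b h => by rw [← twist_twist a, h, twist_twist]
  range := by
    rw [MonoidHom.range_comp, MonoidHom.range_eq_top.2 fun m => ⟨twist m, twist_twist m⟩,
      ← MonoidHom.range_eq_map, S.range]
  phi_T := by
    show S.phi (twist mc) = S.t
    rw [twist_facts.1]
    exact S.phi_T
  sylow := S.sylow

variable [Finite G] [IsSimpleGroup G]

/-- The normalizer of the distinguished Sylow 2-subgroup. -/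
noncomputable def nrm (S : Setting G) : Subgroup G :=
  Subgroup.normalizer ((S.P₀ : Subgroup G) : Set G)

omit [IsSimpleGroup G] in
theorem mem_nrm_phi (S : Setting G) {m : Mdl} :
    S.phi m ∈ nrm S ↔ ∀ a : Mdl, a ∈ mP ↔ m * a * m⁻¹ ∈ mP := by
  rw [nrm, Subgroup.mem_normalizer_iff]
  constructor
  · intro h a
    rw [← S.mem_P₀, h, ← map_inv, ← map_mul, ← map_mul, S.mem_P₀]
  · intro h z
    constructor
    · rintro ⟨a, ha, rfl⟩
      rw [← map_inv, ← map_mul, ← map_mul, S.mem_P₀]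
      exact (h a).1 ha
    · rintro ⟨b, hb, hb'⟩
      have hz : z = S.phi (m⁻¹ * b * m) := by
        rw [map_mul, map_mul, hb', map_inv]; group
      rw [hz, S.mem_P₀, h]
      rwa [show m * (m⁻¹ * b * m) * m⁻¹ = b by group]

theorem card_nrm (S : Setting G) : Nat.card (nrm S) = 168 := by
  classical
  let C := Subgroup.centralizer ({S.t} : Set G)
  let H := C.subgroupOf (nrm S)
  have hstab : Nat.card H = 24 := by
    rw [← card_stab_mP, ← Nat.card_eq_fintype_card]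
    refine (Nat.card_congr (Equiv.ofBijective
      (fun m : {m : Mdl // ∀ n : Fin 8, m * emN n * m⁻¹ ∈ mP} =>
        (⟨⟨S.phi m.1, (mem_nrm_phi S).2 ((stab_iff _).1 m.2)⟩, Subgroup.mem_subgroupOf.2
          (Subgroup.mem_centralizer_singleton_iff.2 (S.comm_t m.1))⟩ : H))
      ⟨fun a b h => Subtype.ext (S.inj (congrArg (fun z : H => ((z : nrm S) : G)) h)), ?_⟩)).symm
    rintro ⟨⟨z, hz⟩, hzC⟩
    obtain ⟨m, rfl⟩ := S.exists_pre (Subgroup.mem_centralizer_singleton_iff.1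
      (Subgroup.mem_subgroupOf.1 hzC))
    exact ⟨⟨m, (stab_iff _).2 ((mem_nrm_phi S).1 hz)⟩, rfl⟩
  have horb : Nat.card (nrm S ⧸ H) = 7 := by
    have h7 : Fintype.card {m : Mdl // m ∈ mP ∧ m ≠ 1} = 7 := by decide +kernel
    rw [← h7, ← Nat.card_eq_fintype_card]
    have htP : S.t ∈ (S.P₀ : Subgroup G) := S.phi_T ▸ S.mem_P₀.2 mT_facts.2.2.1
    have hw : ∀ m : {m : Mdl // m ∈ mP ∧ m ≠ 1}, ∃ n : nrm S, (n : G) * S.t * (n : G)⁻¹ = S.phi m.1 :=
      fun m => by
        obtain ⟨n, hn, he⟩ := S.exists_normalizer_conj m.2.1 m.2.2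
        exact ⟨⟨n, hn⟩, he⟩
    choose w hw' using hw
    refine (Nat.card_congr (Equiv.ofBijective (fun m => (w m : nrm S ⧸ H)) ⟨?_, ?_⟩)).symm
    · intro a b h
      have h' := Subgroup.mem_centralizer_singleton_iff.1
        (Subgroup.mem_subgroupOf.1 (QuotientGroup.eq.1 h))
      refine Subtype.ext (S.inj ?_)
      rw [← hw' a, ← hw' b]
      simp only [Subgroup.coe_mul, Subgroup.coe_inv] at h'
      calc (w a : G) * S.t * (w a : G)⁻¹
          = (w a : G) * (S.t * ((w a : G)⁻¹ * w b)) * (w b : G)⁻¹ := by group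
        _ = (w a : G) * (((w a : G)⁻¹ * w b) * S.t) * (w b : G)⁻¹ := by rw [h']
        _ = (w b : G) * S.t * (w b : G)⁻¹ := by group
    · intro q
      obtain ⟨n, rfl⟩ := QuotientGroup.mk_surjective q
      obtain ⟨a, ha, he⟩ := (Subgroup.mem_normalizer_iff.1 n.2 S.t).1 htP
      have ha1 : a ≠ 1 := by
        rintro rfl
        rw [map_one] at he
        exact S.t_ne_one (conj_eq_one_iff.1 he.symm)
      refine ⟨⟨a, ha, ha1⟩, QuotientGroup.eq.2 (Subgroup.mem_subgroupOf.2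
        (Subgroup.mem_centralizer_singleton_iff.2 ?_))⟩
      have h := hw' ⟨a, ha, ha1⟩
      generalize w ⟨a, ha, ha1⟩ = u at h ⊢
      rw [he] at h
      simp only [Subgroup.coe_mul, Subgroup.coe_inv]
      calc (u : G)⁻¹ * n * S.t = (u : G)⁻¹ * ((n : G) * S.t * (n : G)⁻¹) * n := by group
        _ = (u : G)⁻¹ * ((u : G) * S.t * (u : G)⁻¹) * n := by rw [h]
        _ = S.t * ((u : G)⁻¹ * n) := by group
  rw [Subgroup.card_eq_card_quotient_mul_card_subgroup H, hstab, horb]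

/-- An element of order seven normalized by `x`, the latter acting by a square or a fourth
power. -/
theorem exists_seven (S : Setting G) : ∃ g : G, g ^ 7 = 1 ∧ g ≠ 1 ∧ g ∈ nrm S ∧
    (S.phi mx * g * (S.phi mx)⁻¹ = g ^ 2 ∨ S.phi mx * g * (S.phi mx)⁻¹ = g ^ 4) := by
  classical
  haveI : Fact (Nat.Prime 7) := ⟨by norm_num⟩
  haveI : Fact (Nat.Prime 3) := ⟨by norm_num⟩
  have hxN : S.phi mx ∈ nrm S := (mem_nrm_phi S).2 mR_norm
  let xN : nrm S := ⟨S.phi mx, hxN⟩
  have hx3 : orderOf xN = 3 := by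
    rw [← Subgroup.orderOf_coe]
    show orderOf (S.phi mx) = 3
    rw [orderOf_injective _ S.inj]
    exact orderOf_eq_prime (by decide +kernel) (by decide +kernel)
  have hR : IsPGroup 3 (Subgroup.zpowers xN) :=
    IsPGroup.of_card (n := 1) (by rw [Nat.card_zpowers, hx3, pow_one])
  have hN := card_nrm S
  obtain ⟨P₇, -⟩ : ∃ P : Sylow 7 (nrm S), True := ⟨Classical.arbitrary _, trivial⟩
  have hP : ∀ P : Sylow 7 (nrm S), Nat.card (P : Subgroup (nrm S)) = 7 := by
    intro P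
    rw [P.card_eq_multiplicity, hN, show Nat.factorization 168 7 = 1 from ?_, pow_one]
    rw [show (168 : ℕ) = 7 * 24 by norm_num, Nat.factorization_mul (by norm_num) (by norm_num)]
    simp [Nat.Prime.factorization (show Nat.Prime 7 by norm_num),
      Nat.factorization_eq_zero_of_not_dvd (show ¬ 7 ∣ 24 by norm_num)]
  have h3 : ¬ 3 ∣ Nat.card (Sylow 7 (nrm S)) := by
    intro h
    have h1 : Nat.card (Sylow 7 (nrm S)) ∣ 24 := by
      have h := P₇.card_dvd_index
      have hi := (P₇ : Subgroup (nrm S)).card_mul_index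
      rw [hP P₇, hN] at hi
      rwa [show (P₇ : Subgroup (nrm S)).index = 24 by omega] at h
    have h2 : Nat.card (Sylow 7 (nrm S)) % 7 = 1 := card_sylow_modEq_one 7 (nrm S)
    have := Nat.le_of_dvd (by norm_num) h1
    generalize Nat.card (Sylow 7 (nrm S)) = k at h h1 h2 this
    interval_cases k <;> omega
  obtain ⟨P, hfix⟩ := hR.nonempty_fixed_point_of_prime_not_dvd_card (Sylow 7 (nrm S)) h3
  have hfix' : xN • P = P := hfix ⟨xN, Subgroup.mem_zpowers _⟩
  obtain ⟨g, hgP, hg1⟩ : ∃ g ∈ (P : Subgroup (nrm S)), g ≠ 1 := by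
    by_contra! h
    have := Subgroup.eq_bot_iff_forall (P : Subgroup (nrm S)) |>.2 h
    have h7 := hP P
    rw [this, Subgroup.card_bot] at h7
    omega
  have hg7 : orderOf g = 7 := by
    have h := Subgroup.orderOf_dvd_natCard _ hgP
    rw [hP P] at h
    exact ((Nat.dvd_prime (by norm_num)).1 h).resolve_left fun h => hg1 (orderOf_eq_one_iff.1 h)
  have hzp : Subgroup.zpowers g = (P : Subgroup (nrm S)) :=
    Subgroup.eq_of_le_of_card_ge (Subgroup.zpowers_le.2 hgP)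
      (by rw [hP P, Nat.card_zpowers, hg7])
  have hmem : xN * g * xN⁻¹ ∈ Subgroup.zpowers g := by
    rw [hzp]
    have h : MulAut.conj xN • g ∈ MulAut.conj xN • (P : Subgroup (nrm S)) :=
      Subgroup.smul_mem_pointwise_smul _ _ _ hgP
    rwa [← Sylow.pointwise_smul_def, ← Sylow.smul_def, hfix'] at h
  obtain ⟨k, hk⟩ := (mem_powers_iff_mem_zpowers (x := g)).2 hmem
  obtain ⟨j, hj, hj'⟩ : ∃ j < 7, g ^ j = xN * g * xN⁻¹ :=
    ⟨k % 7, Nat.mod_lt _ (by norm_num), by rw [← hk, ← hg7, pow_mod_orderOf]⟩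
  have hcube : g ^ (j * j * j) = g := by
    have hc : ∀ k : ℕ, xN * g ^ k * xN⁻¹ = g ^ (j * k) := fun k => by
      rw [pow_mul, hj', conj_pow]
    have hx : xN ^ 3 = 1 := hx3 ▸ pow_orderOf_eq_one xN
    have : xN * (xN * (xN * g * xN⁻¹) * xN⁻¹) * xN⁻¹ = g := by
      have e : xN * (xN * (xN * g * xN⁻¹) * xN⁻¹) * xN⁻¹ = xN ^ 3 * g * (xN ^ 3)⁻¹ := by
        simp only [pow_succ, pow_zero, one_mul, mul_inv_rev, mul_assoc]
      rw [e, hx, one_mul, inv_one, mul_one]
    rw [← hj', hc, hc] at this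
    rw [mul_assoc]
    exact this
  have hjm : j * j * j % 7 = 1 := by
    have := pow_eq_pow_iff_modEq.1 (hcube.trans (pow_one g).symm)
    rw [hg7] at this
    exact this
  have hgG : (g : G) ≠ 1 := fun h => hg1 (Subtype.ext h)
  have hg7' : (g : G) ^ 7 = 1 := by
    rw [← Subgroup.coe_pow, ← hg7, pow_orderOf_eq_one, Subgroup.coe_one]
  have hj'' : S.phi mx * (g : G) * (S.phi mx)⁻¹ = (g : G) ^ j := by
    rw [← Subgroup.coe_pow, hj', Subgroup.coe_mul, Subgroup.coe_mul, Subgroup.coe_inv]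
  refine ⟨g, hg7', hgG, g.2, ?_⟩
  obtain rfl | rfl | rfl : j = 1 ∨ j = 2 ∨ j = 4 := by interval_cases j <;> omega
  · exfalso
    rw [pow_one] at hj''
    have hcomm : S.phi mx * (g : G) = (g : G) * S.phi mx := mul_inv_eq_iff_eq_mul.1 hj''
    have htP : S.t ∈ (S.P₀ : Subgroup G) := S.phi_T ▸ S.mem_P₀.2 mT_facts.2.2.1
    obtain ⟨a, ha, he⟩ := (Subgroup.mem_normalizer_iff.1 g.2 S.t).1 htP
    have hc : Commute (S.phi mx) ((g : G) * S.t * (g : G)⁻¹) :=
      ((Commute.mul_right hcomm (S.comm_t mx)).mul_right (Commute.inv_right hcomm))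
    have hfa : mx * a * mx⁻¹ = a := by
      apply S.inj
      rw [map_mul, map_mul, map_inv, he, hc.eq, mul_inv_cancel_right]
    have ha1 : a ≠ 1 := by
      rintro rfl
      rw [map_one] at he
      exact S.t_ne_one (conj_eq_one_iff.1 he.symm)
    have hgt : (g : G) * S.t * (g : G)⁻¹ = S.t := by
      rw [← he, fixed_mx a ha ha1 hfa]
      exact S.phi_T
    obtain ⟨m, hm⟩ := S.exists_pre (mul_inv_eq_iff_eq_mul.1 hgt)
    refine hgG ?_
    rw [← hm, seven_pow_one m (S.inj (by rw [map_pow, hm, hg7', map_one])), map_one]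
  · exact Or.inl hj''
  · exact Or.inr hj''

/-- A configuration. -/
theorem exists_frame (S : Setting G) : ∃ S' : Setting G, ∃ F : Frame G, F.ι = S'.phi := by
  classical
  obtain ⟨S', g, hg7, hg1, hgN, hgx⟩ : ∃ S' : Setting G, ∃ g : G, g ^ 7 = 1 ∧ g ≠ 1 ∧ g ∈ nrm S' ∧
      S'.phi mx * g * (S'.phi mx)⁻¹ = g ^ 2 := by
    obtain ⟨g, h7, h1, hN, h | h⟩ := exists_seven S
    · exact ⟨S, g, h7, h1, hN, h⟩
    · refine ⟨twistSetting S, g, h7, h1, ?_, ?_⟩
      · have hP : ((twistSetting S).P₀ : Subgroup G) = (S.P₀ : Subgroup G) := by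
          ext z
          constructor
          · rintro ⟨a, ha, rfl⟩
            exact S.mem_P₀.2 ((twist_mem_mP a).2 ha)
          · rintro ⟨a, ha, rfl⟩
            refine ⟨twist a, (twist_mem_mP a).2 ha, ?_⟩
            show S.phi (twist (twist a)) = S.phi a
            rw [twist_twist]
        show g ∈ Subgroup.normalizer (((twistSetting S).P₀ : Subgroup G) : Set G)
        rw [hP]
        exact hN
      · show S.phi (twist mx) * g * (S.phi (twist mx))⁻¹ = g ^ 2
        rw [twist_facts.2, map_inv, inv_inv]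
        generalize S.phi mx = x at h ⊢
        have e : x⁻¹ * g ^ 4 * x = g := by rw [← h]; group
        have e' : x⁻¹ * g * x = x⁻¹ * (g ^ 4) ^ 2 * x := by
          rw [← pow_mul, show g ^ (4 * 2) = g ^ 7 * g by rw [← pow_succ], h7, one_mul]
        rw [e']
        conv_rhs => rw [← e]
        simpa only [inv_inv] using (conj_pow (a := x⁻¹) (b := g ^ 4) (i := 2)).symm
  obtain ⟨hem, hex, hinj⟩ := emN_facts
  have hq : ∀ n : Fin 8, ∃ k : Fin 8, g⁻¹ * S'.phi (emN n) * g = S'.phi (emN k) := by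
    intro n
    have h := (Subgroup.mem_normalizer_iff.1 (inv_mem hgN) _).1 (S'.mem_P₀.2 (hem n))
    rw [inv_inv] at h
    obtain ⟨a, ha, he⟩ := h
    obtain ⟨k, rfl⟩ := hex a ha
    exact ⟨k, he.symm⟩
  choose q hq using hq
  have hp : ∀ n : Fin 8, g⁻¹ * S'.phi (emN n) * g = S'.phi (emN (lin (q 1) (q 2) (q 4) n)) := by
    intro n
    have e : g⁻¹ * S'.phi (emN n) * g = MulAut.conj g⁻¹ (S'.phi (emN n)) := by simp
    have e' : ∀ k : Fin 8, MulAut.conj g⁻¹ (S'.phi (emN k)) = S'.phi (emN (q k)) := fun k => by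
      rw [← hq]; simp
    have e1 : ∀ k : ℕ, emN k = emN (1 : Fin 8) ^ (k % 2) * emN (2 : Fin 8) ^ (k / 2 % 2) *
        emN (4 : Fin 8) ^ (k / 4 % 2) := fun k => by simp [emN]
    rw [e, emN_lin, e1 n]
    simp only [map_mul, map_pow, e']
  set p := lin (q 1) (q 2) (q 4) with hpdef
  have hp8 : ∀ n : Fin 8, p n < 8 := lin_lt _ _ _
  have heq : ∀ a b : ℕ, a < 8 → b < 8 → S'.phi (emN a) = S'.phi (emN b) → a = b :=
    fun a b ha hb h => congrArg Fin.val (hinj ⟨a, ha⟩ ⟨b, hb⟩ (S'.inj h))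
  have hfp : ∀ n : Fin 8, n ≠ 0 → p n ≠ n ∧ p n ≠ 0 := by
    intro n hn
    have hn1 : emN n ≠ 1 := fun h => hn (hinj n 0 (h.trans (by decide +kernel)))
    constructor <;> intro h
    · have hc := hp n
      rw [h] at hc
      obtain ⟨w, -, hw⟩ := S'.exists_normalizer_conj (hem n) hn1
      have hct : (w⁻¹ * g * w) * S'.t = S'.t * (w⁻¹ * g * w) := by
        have hcg : S'.phi (emN n) * g = g * S'.phi (emN n) := by
          rwa [mul_assoc, inv_mul_eq_iff_eq_mul] at hc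
        rw [← hw] at hcg
        calc w⁻¹ * g * w * S'.t = w⁻¹ * (g * (w * S'.t * w⁻¹)) * w := by group
          _ = w⁻¹ * (w * S'.t * w⁻¹ * g) * w := by rw [hcg]
          _ = S'.t * (w⁻¹ * g * w) := by group
      obtain ⟨m, hm⟩ := S'.exists_pre hct
      have hm1 : m = 1 := seven_pow_one m (S'.inj (by
        rw [map_pow, hm, map_one]
        have := conj_pow (a := w⁻¹) (b := g) (i := 7)
        rw [inv_inv] at this
        rw [this, hg7]
        group))
      rw [hm1, map_one] at hm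
      refine hg1 ?_
      rw [show g = w * (w⁻¹ * g * w) * w⁻¹ by group, ← hm]
      group
    · have hc := hp n
      rw [h] at hc
      refine hn1 (S'.inj ?_)
      rw [map_one, ← conj_eq_one_iff (a := g⁻¹), inv_inv, hc, show emN 0 = 1 from rfl, map_one]
  have hlt : ∀ (A B D : ℕ), A < 8 → B < 8 → D < 8 → ∀ n, lin A B D n < 8 := by
    intro A B D hA hB hD n
    have := lin_lt ⟨A, hA⟩ ⟨B, hB⟩ ⟨D, hD⟩ ⟨n % 8, Nat.mod_lt _ (by norm_num)⟩
    simp only [lin] at this ⊢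
    rwa [show n % 8 % 2 = n % 2 by omega, show n % 8 / 2 % 2 = n / 2 % 2 by omega,
      show n % 8 / 4 % 2 = n / 4 % 2 by omega] at this
  have hps : ∀ i, p i < 8 := fun i => hlt _ _ _ (q 1).isLt (q 2).isLt (q 4).isLt i
  have hp' : ∀ i, i < 8 → g⁻¹ * S'.phi (emN i) * g = S'.phi (emN (p i)) := fun i hi => hp ⟨i, hi⟩
  have hσ : ∀ i, i < 8 → mx * emN i * mx⁻¹ = emN (lin 1 4 6 i) ∧
      mx⁻¹ * emN i * mx = emN (lin 1 6 2 i) := fun i hi => emN_sigma ⟨i, hi⟩
  have h162 : ∀ i, lin 1 6 2 i < 8 := hlt 1 6 2 (by norm_num) (by norm_num) (by norm_num)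
  have h146 : ∀ i, lin 1 4 6 i < 8 := hlt 1 4 6 (by norm_num) (by norm_num) (by norm_num)
  have hrel : ∀ n : Fin 8, p (p n) = lin 1 4 6 (p (lin 1 6 2 n)) := by
    intro n
    refine heq _ _ (hps _) (h146 _) ?_
    rw [← hp' _ (hps _), ← hp' _ n.isLt, ← (hσ _ (hps _)).1, map_mul, map_mul, map_inv,
      ← hp' _ (h162 _), ← (hσ _ n.isLt).2, map_mul, map_mul, map_inv]
    generalize S'.phi (emN n) = e
    generalize S'.phi mx = x at hgx ⊢
    calc g⁻¹ * (g⁻¹ * e * g) * g = (g ^ 2)⁻¹ * e * g ^ 2 := by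
            simp only [pow_two, mul_inv_rev, mul_assoc]
      _ = (x * g * x⁻¹)⁻¹ * e * (x * g * x⁻¹) := by rw [hgx]
      _ = x * (g⁻¹ * (x⁻¹ * e * x) * g) * x⁻¹ := by group
  obtain ⟨k, -, hk⟩ := seven_powers _ _ _ hfp hrel
  have hiter : ∀ (i : ℕ) (n : Fin 8),
      (g ^ i)⁻¹ * S'.phi (emN n) * g ^ i = S'.phi (emN (p^[i] n)) ∧ p^[i] n < 8 := by
    intro i
    induction i with
    | zero => intro n; simp
    | succ i ih =>
      intro n
      obtain ⟨h1, h2⟩ := ih n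
      rw [Function.iterate_succ_apply']
      refine ⟨?_, hps _⟩
      rw [← hp ⟨_, h2⟩, ← h1, pow_succ]
      group
  refine ⟨S', ⟨S'.phi, g ^ k.val, S'.inj, ?_, ?_, ?_, ?_⟩, rfl⟩
  · rw [S'.range, ← S'.phi_T]; rfl
  · rw [← pow_mul, mul_comm, pow_mul, hg7, one_pow]
  · intro ab hab
    obtain ⟨n, h1, h2⟩ := gGen_emN ab hab
    rw [h1, h2, (hiter k n).1, hk n]
  · rw [← conj_pow, hgx, ← pow_mul, ← pow_mul, mul_comm]

end CfsgLib.JOneUnique
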