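import Cfsg.Agent.JOneUnique.Local
import Mathlib.GroupTheory.FixedPointFree
import Mathlib.GroupTheory.Transfer

/-!
A member of order five of the involution centralizer has a centralizer of more than ten elements;
this gives one of the candidate commutation relations.
-/

set_option autoImplicit false
set_option linter.style.haveILetI false

namespace CfsgLib.JOneUnique

open CfsgLib.CosetEnum CfsgLib.MTwelveUnique CfsgLib.J1Order Equiv Pointwise

set_option synthInstance.maxSize 1024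

/-- The element of order five. -/
def mf : Mdl := wordM [0, 2, 6]

theorem mf_facts : mf ^ 5 = 1 ∧ mf ≠ 1 ∧ mv * mf * mv⁻¹ = mf⁻¹ ∧ mc * mf = mf * mc ∧
    mc * mc = 1 ∧ mv * mv = 1 ∧ mc * mv = mv * mc ∧ mc ≠ 1 := by
  decide +kernel

theorem card_cent_mf : Fintype.card {m : Mdl // m * mf = mf * m} = 10 := by decide +kernel

theorem cent_mf_sq : ∀ m : Mdl, m * mf = mf * m → m * m = 1 → m = 1 ∨ m = mc := by decide +kernel

theorem cent_mf_mv : ∀ m : Mdl, m * mf = mf * m → (m * mv = mv * m ∨ m * (mc * mv) = (mc * mv) * m) →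
    m * m = 1 := by
  decide +kernel

theorem cent_orders : ∀ m : Mdl, m ^ 3 = 1 ∨ m ^ 5 = 1 ∨ (m ^ 15) * (m ^ 15) = 1 ∧ m ^ 15 ≠ 1 := by
  decide +kernel

theorem d_facts : mc * mv * mf * (mc * mv)⁻¹ = mf⁻¹ ∧ mc * mv * (mc * mv) = 1 ∧
    mc * (mc * mv) = mc * mv * mc ∧ mc = emN 1 ∧ mv = emN 2 ∧ mc * mv = emN 3 := by
  decide +kernel

theorem inverted_three : ∀ m : Mdl, m ^ 3 = 1 → m ≠ 1 →
    (emN 5 * m * (emN 5)⁻¹ = m⁻¹ →
      m = wordM [0, 3, 0, 6] ∨ m⁻¹ = wordM [0, 3, 0, 6] ∨ m = wordM [0, 6, 0, 2] ∨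
        m⁻¹ = wordM [0, 6, 0, 2]) ∧
    (emN 6 * m * (emN 6)⁻¹ = m⁻¹ →
      m = wordM [0, 2, 0, 6] ∨ m⁻¹ = wordM [0, 2, 0, 6] ∨ m = wordM [0, 6, 0, 3] ∨
        m⁻¹ = wordM [0, 6, 0, 3]) := by
  decide +kernel

theorem word_inverses : wordM [7, 1, 2, 1] = (wordM [0, 3, 0, 6])⁻¹ ∧
    wordM [3, 1, 7, 1] = (wordM [0, 6, 0, 2])⁻¹ ∧ wordM [7, 1, 3, 1] = (wordM [0, 2, 0, 6])⁻¹ ∧
    wordM [2, 1, 7, 1] = (wordM [0, 6, 0, 3])⁻¹ ∧ wordM [7, 3, 1] = mf⁻¹ := by
  decide +kernel

/-- An involution without fixed points on a subgroup inverts it. -/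
theorem inverts_of_fixedPointFree {G : Type*} [Group G] [Finite G] (O : Subgroup G) {s : G}
    (hs : s * s = 1) (hn : ∀ z ∈ O, s * z * s⁻¹ ∈ O)
    (hf : ∀ z ∈ O, s * z * s⁻¹ = z → z = 1) : ∀ z ∈ O, s * z * s⁻¹ = z⁻¹ := by
  let φ : O →* O := ((MulAut.conj s).toMonoidHom.comp O.subtype).codRestrict O fun z => hn z z.2
  have hfp : MonoidHom.FixedPointFree φ := fun z hz =>
    Subtype.ext (hf z z.2 (congrArg Subtype.val hz))
  have hinv : Function.Involutive φ := fun z => Subtype.ext (by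
    show s * (s * (z : G) * s⁻¹) * s⁻¹ = z
    rw [show s * (s * (z : G) * s⁻¹) * s⁻¹ = (s * s) * z * (s * s)⁻¹ by group, hs]
    group)
  intro z hz
  exact congrArg Subtype.val (congrFun (hfp.coe_eq_inv_of_involutive hinv) ⟨z, hz⟩)

variable {G : Type*} [Group G] [Finite G] [IsSimpleGroup G]

omit [IsSimpleGroup G] in
theorem twenty_five_not_dvd {n : ℕ} (h : n = 175560) : ¬ 25 ∣ n := by omega

/-- The centralizer of the element of order five is larger than its part in `C(t)`. -/
theorem cent_mf_ne_ten (S : Setting G) :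
    Nat.card (Subgroup.centralizer ({S.phi mf} : Set G)) ≠ 10 := by
  classical
  intro hten
  haveI : Fact (Nat.Prime 5) := ⟨by norm_num⟩
  obtain ⟨h5, h1, hinvm, -, -, -, -, -⟩ := mf_facts
  set a := S.phi mf with hadef
  have ha5 : orderOf a = 5 := orderOf_eq_prime (by rw [hadef, ← map_pow, h5, map_one])
    fun h => h1 (S.inj (h.trans (map_one _).symm))
  have hG := card_eq S
  let P : Sylow 5 G := Sylow.ofCard (Subgroup.zpowers a) (by
    rw [Nat.card_zpowers, ha5, hG,
      show (175560 : ℕ) = 5 * 35112 by norm_num, Nat.factorization_mul (by norm_num) (by norm_num)]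
    simp [Nat.Prime.factorization (show Nat.Prime 5 by norm_num),
      Nat.factorization_eq_zero_of_not_dvd (show ¬ 5 ∣ 35112 by norm_num)])
  let N := Subgroup.normalizer ((P : Subgroup G) : Set G)
  let C := Subgroup.centralizer ({a} : Set G)
  have hP : (P : Subgroup G) = Subgroup.zpowers a := rfl
  have hCN : C ≤ N := by
    intro z hz
    rw [Subgroup.mem_centralizer_singleton_iff] at hz
    have hz' : ∀ k : ℤ, z * a ^ k * z⁻¹ = a ^ k := fun k => by
      rw [(Commute.zpow_right hz k).eq, mul_inv_cancel_right]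
    show z ∈ Subgroup.normalizer ((Subgroup.zpowers a : Subgroup G) : Set G)
    rw [Subgroup.mem_normalizer_iff]
    intro y
    constructor
    · rintro ⟨k, rfl⟩; exact ⟨k, (hz' k).symm⟩
    · rintro ⟨k, hk⟩
      refine ⟨k, ?_⟩
      simp only at hk ⊢
      have := (hk.symm.trans (hz' k).symm)
      exact (mul_left_cancel (mul_right_cancel this)).symm
  have hvN : S.phi mv ∈ N := by
    show S.phi mv ∈ Subgroup.normalizer ((Subgroup.zpowers a : Subgroup G) : Set G)
    have hv : ∀ k : ℤ, S.phi mv * a ^ k * (S.phi mv)⁻¹ = a ^ (-k) := fun k => by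
      rw [zpow_neg, ← inv_zpow, hadef, ← map_inv S.phi mf, ← hinvm, map_mul, map_mul, map_inv,
        conj_zpow]
    rw [Subgroup.mem_normalizer_iff]
    intro y
    constructor
    · rintro ⟨k, rfl⟩; exact ⟨-k, (hv k).symm⟩
    · rintro ⟨k, hk⟩
      refine ⟨-k, ?_⟩
      simp only at hk ⊢
      have := hv (-k)
      rw [neg_neg, hk] at this
      exact mul_left_cancel (mul_right_cancel this)
  let f : N ⧸ C.subgroupOf N → {y : G // y ∈ Subgroup.zpowers a ∧ y ≠ 1} :=
    Quotient.lift (fun n => ⟨(n : G) * a * (n : G)⁻¹,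
      (Subgroup.mem_normalizer_iff.1 n.2 a).1 (Subgroup.mem_zpowers a),
      fun h => by
        have := conj_eq_one_iff.1 h
        rw [this, orderOf_one] at ha5; omega⟩) (by
      intro n k h
      have h' := Subgroup.mem_centralizer_singleton_iff.1
        (Subgroup.mem_subgroupOf.1 (QuotientGroup.leftRel_apply.1 h))
      simp only [Subgroup.coe_mul, Subgroup.coe_inv] at h'
      refine Subtype.ext ?_
      show (n : G) * a * (n : G)⁻¹ = (k : G) * a * (k : G)⁻¹
      calc (n : G) * a * (n : G)⁻¹ = n * (a * ((n : G)⁻¹ * k)) * (k : G)⁻¹ := by group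
        _ = n * (((n : G)⁻¹ * k) * a) * (k : G)⁻¹ := by rw [h']
        _ = (k : G) * a * (k : G)⁻¹ := by group)
  have hf : Function.Injective f := by
    intro p q h
    obtain ⟨n, rfl⟩ := QuotientGroup.mk_surjective p
    obtain ⟨k, rfl⟩ := QuotientGroup.mk_surjective q
    have h' : (n : G) * a * (n : G)⁻¹ = (k : G) * a * (k : G)⁻¹ := congrArg Subtype.val h
    refine QuotientGroup.eq.2 (Subgroup.mem_subgroupOf.2
      (Subgroup.mem_centralizer_singleton_iff.2 ?_))
    simp only [Subgroup.coe_mul, Subgroup.coe_inv]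
    calc (n : G)⁻¹ * k * a = (n : G)⁻¹ * ((k : G) * a * (k : G)⁻¹) * k := by group
      _ = (n : G)⁻¹ * ((n : G) * a * (n : G)⁻¹) * k := by rw [h']
      _ = a * ((n : G)⁻¹ * k) := by group
  have h4 : Nat.card {y : G // y ∈ Subgroup.zpowers a ∧ y ≠ 1} = 4 := by
    have h : Nat.card {y : G // y ∈ Subgroup.zpowers a ∧ y ≠ 1} =
        ((Subgroup.zpowers a : Set G) \ {1}).ncard := (Nat.card_coe_set_eq _)
    rw [h, Set.ncard_diff_singleton_of_mem (Subgroup.one_mem (Subgroup.zpowers a)),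
      ← Nat.card_coe_set_eq]
    show Nat.card (Subgroup.zpowers a) - 1 = 4
    rw [Nat.card_zpowers, ha5]
  have hk4 := (Nat.card_le_card_of_injective f hf).trans_eq h4
  have hk2 : 2 ≤ Nat.card (N ⧸ C.subgroupOf N) := by
    by_contra h
    have hidx : (C.subgroupOf N).index = 1 := by
      have := Nat.card_pos (α := N ⧸ C.subgroupOf N)
      show Nat.card (N ⧸ C.subgroupOf N) = 1
      omega
    have : (⟨S.phi mv, hvN⟩ : N) ∈ C.subgroupOf N := by
      rw [Subgroup.index_eq_one.1 hidx]; trivial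
    rw [Subgroup.mem_subgroupOf, Subgroup.mem_centralizer_singleton_iff] at this
    have e : mv * mf = mf * mv := S.inj (by rw [map_mul, map_mul]; exact this)
    exact absurd e (by decide +kernel)
  have hN : Nat.card N = Nat.card (N ⧸ C.subgroupOf N) * 10 := by
    rw [Subgroup.card_eq_card_quotient_mul_card_subgroup (C.subgroupOf N),
      Nat.card_congr (Subgroup.subgroupOfEquivOfLe hCN).toEquiv, hten]
  have hn5 : Nat.card (Sylow 5 G) % 5 = 1 := card_sylow_modEq_one 5 G
  rw [Sylow.card_eq_index_normalizer P] at hn5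
  have hidx := N.card_mul_index
  change N.index % 5 = 1 at hn5
  rw [hN, hG] at hidx
  generalize Nat.card (N ⧸ C.subgroupOf N) = k at hk2 hk4 hidx
  interval_cases k <;> omega

/-- A word for the commutation relation. -/
theorem prodw_loop (F : Frame G) (pre post : List ℕ) (W : G) (hpre : prodw F.gl pre = W)
    (hpost : prodw F.gl post = W⁻¹) (w w' : List ℕ) (hw : ∀ x ∈ w, x ≠ 8 ∧ x ≠ 9)
    (hw' : ∀ x ∈ w', x ≠ 8 ∧ x ≠ 9) (hinv : wordM w' = (wordM w)⁻¹)
    (h : W * F.ι (wordM w) * W⁻¹ * F.ι mf = F.ι mf * (W * F.ι (wordM w) * W⁻¹)) :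
    prodw F.gl (pre ++ w ++ post ++ [0, 2, 6] ++ pre ++ w' ++ post ++ [7, 3, 1]) = 1 := by
  simp only [prodw_append, hpre, hpost, F.prodw_model w hw, F.prodw_model w' hw',
    F.prodw_model [0, 2, 6] (by decide), F.prodw_model [7, 3, 1] (by decide), hinv,
    word_inverses.2.2.2.2, map_inv]
  change W * F.ι (wordM w) * W⁻¹ * F.ι mf * W * (F.ι (wordM w))⁻¹ * W⁻¹ * (F.ι mf)⁻¹ = 1
  rw [h]
  group

/-- A configuration satisfies one of the candidate relations. -/
theorem exists_candidate (S : Setting G) (F : Frame G) (hF : F.ι = S.phi) :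
    ∃ k < 4, prodw F.gl (candRels.getD k []) = 1 := by
  classical
  haveI : Fact (Nat.Prime 2) := ⟨Nat.prime_two⟩
  haveI : Fact (Nat.Prime 5) := ⟨by norm_num⟩
  obtain ⟨h5, h1, hinvm, hcf, hcc, hvv, hcv, hc1⟩ := mf_facts
  set a := S.phi mf with hadef
  set C := Subgroup.centralizer ({a} : Set G) with hC
  have memC : ∀ {z : G}, z ∈ C ↔ z * a = a * z := Subgroup.mem_centralizer_singleton_iff
  have ht : S.phi mc = S.t := S.phi_T
  -- the part inside `C(t)`
  have hpre : ∀ z : G, z * a = a * z → z * S.t = S.t * z → ∃ m, m * mf = mf * m ∧ S.phi m = z := by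
    intro z hz hzt
    obtain ⟨m, rfl⟩ := S.exists_pre hzt
    exact ⟨m, S.inj (by rw [map_mul, map_mul]; exact hz), rfl⟩
  have hcC : S.phi mc ∈ C := memC.2 (by rw [hadef, ← map_mul, ← map_mul, hcf])
  -- a Sylow 2-subgroup has order 2
  let cC : C := ⟨S.phi mc, hcC⟩
  have hc2 : orderOf cC = 2 := by
    rw [← Subgroup.orderOf_coe]
    show orderOf (S.phi mc) = 2
    rw [orderOf_injective _ S.inj]
    exact orderOf_eq_prime (by rw [pow_two, hcc]) hc1
  obtain ⟨Q, hQ⟩ := (IsPGroup.of_card (p := 2) (n := 1) (G := Subgroup.zpowers cC)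
    (by rw [Nat.card_zpowers, hc2, pow_one])).exists_le_sylow
  have hQle : ∀ z : C, z ∈ (Q : Subgroup C) → z = 1 ∨ z = cC := by
    intro z hz
    obtain ⟨Q', hQ'⟩ := (Q.isPGroup'.map C.subtype).exists_le_sylow
    obtain ⟨w, hw⟩ := MulAction.exists_smul_eq G Q' S.P₀
    have hin : ∀ y : C, y ∈ (Q : Subgroup C) → w * (y : G) * w⁻¹ ∈ (S.P₀ : Subgroup G) := by
      intro y hy
      rw [← hw, Sylow.smul_def, Sylow.pointwise_smul_def]
      exact ⟨(y : G), hQ' ⟨y, hy, rfl⟩, rfl⟩
    have hzz := hin z hz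
    have hzc := hin cC (hQ (Subgroup.mem_zpowers _))
    have hcomm : (z : G) * S.t = S.t * (z : G) := by
      have h := congrArg (fun y => w⁻¹ * y * w) (S.comm_P₀ hzz hzc)
      simp only [← ht]
      calc (z : G) * S.phi mc = w⁻¹ * (w * (z : G) * w⁻¹ * (w * S.phi mc * w⁻¹)) * w := by group
        _ = w⁻¹ * (w * S.phi mc * w⁻¹ * (w * (z : G) * w⁻¹)) * w := h
        _ = S.phi mc * (z : G) := by group
    obtain ⟨m, hm, hmz⟩ := hpre z (memC.1 z.2) hcomm
    have hsq : (z : G) * z = 1 := by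
      have := S.sq_P₀ hzz
      calc (z : G) * z = w⁻¹ * (w * (z : G) * w⁻¹ * (w * (z : G) * w⁻¹)) * w := by group
        _ = 1 := by rw [this]; group
    rcases cent_mf_sq m hm (S.inj (by rw [map_mul, hmz, hsq, map_one])) with rfl | rfl
    · exact Or.inl (Subtype.ext (by rw [← hmz, map_one]; rfl))
    · exact Or.inr (Subtype.ext hmz.symm)
  have hQN : Subgroup.normalizer ((Q : Subgroup C) : Set C) ≤
      Subgroup.centralizer ((Q : Subgroup C) : Set C) := by
    intro n hn y hy
    rcases hQle y hy with rfl | rfl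
    · simp
    · rcases hQle _ ((Subgroup.mem_normalizer_iff.1 hn cC).1 hy) with h | h
      · have := conj_eq_one_iff.1 h
        rw [this, orderOf_one] at hc2; omega
      · exact (mul_inv_eq_iff_eq_mul.1 h).symm
  have hQ2 : Nat.card (Q : Subgroup C) = 2 := by
    have : (Q : Subgroup C) = Subgroup.zpowers cC := by
      refine le_antisymm (fun z hz => ?_) hQ
      rcases hQle z hz with rfl | rfl
      · exact Subgroup.one_mem _
      · exact Subgroup.mem_zpowers _
    rw [this, Nat.card_zpowers, hc2]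
  set K := (MonoidHom.transferSylow Q hQN).ker with hK
  have hKodd : ∀ z : C, z ∈ K ↔ Odd (orderOf z) := by
    intro z
    constructor
    · intro hz
      refine Nat.not_even_iff_odd.1 fun h => MonoidHom.not_dvd_card_ker_transferSylow Q hQN ?_
      exact (even_iff_two_dvd.1 h).trans (Subgroup.orderOf_dvd_natCard _ hz)
    · intro hz
      rw [hK, MonoidHom.mem_ker]
      have h1 := orderOf_map_dvd (MonoidHom.transferSylow Q hQN) z
      have h2 : orderOf (MonoidHom.transferSylow Q hQN z) ∣ 2 := by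
        have := orderOf_dvd_natCard (MonoidHom.transferSylow Q hQN z)
        rwa [hQ2] at this
      rcases (Nat.dvd_prime Nat.prime_two).1 h2 with h | h
      · exact orderOf_eq_one_iff.1 h
      · rw [h] at h1
        exact absurd (even_iff_two_dvd.2 h1) (Nat.not_even_iff_odd.2 hz)
  let O : Subgroup G := K.map C.subtype
  have memO : ∀ {z : G}, z ∈ O ↔ z * a = a * z ∧ Odd (orderOf z) := by
    intro z
    constructor
    · rintro ⟨y, hy, rfl⟩
      exact ⟨memC.1 y.2, by rw [C.subtype_apply, Subgroup.orderOf_coe]; exact (hKodd y).1 hy⟩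
    · rintro ⟨hz, ho⟩
      exact ⟨⟨z, memC.2 hz⟩, (hKodd _).2 (by rwa [← Subgroup.orderOf_coe]), rfl⟩
  have hO : 2 * Nat.card O = Nat.card C := by
    rw [Subgroup.card_map_of_injective C.subtype_injective, mul_comm,
      ← (MonoidHom.ker_transferSylow_isComplement' Q hQN).card_mul_card, hQ2]
  -- `V = ⟨c, d⟩` normalises `O`
  have hnorm : ∀ m : Mdl, m * mf * m⁻¹ = mf ∨ m * mf * m⁻¹ = mf⁻¹ →
      ∀ z ∈ O, S.phi m * z * (S.phi m)⁻¹ ∈ O := by
    intro m hm z hz
    obtain ⟨hz1, hz2⟩ := memO.1 hz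
    refine memO.2 ⟨?_, ?_⟩
    · have hza : Commute z a := hz1
      have hz' : Commute (S.phi m * z * (S.phi m)⁻¹) (S.phi m * a * (S.phi m)⁻¹) := hza.conj _
      have e : S.phi m * a * (S.phi m)⁻¹ = S.phi (m * mf * m⁻¹) := by
        rw [hadef, map_mul, map_mul, map_inv]
      rw [e] at hz'
      rcases hm with h | h <;> rw [h] at hz'
      · exact hz'
      · rw [map_inv, ← hadef] at hz'
        exact (Commute.inv_right_iff.1 hz').eq
    · rw [show S.phi m * z * (S.phi m)⁻¹ = MulAut.conj (S.phi m) z from rfl, MulEquiv.orderOf_eq]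
      exact hz2
  have hnc := hnorm mc (Or.inl (by rw [hcf, mul_inv_cancel_right]))
  have hnv := hnorm mv (Or.inr hinvm)
  have hncv := hnorm (mc * mv) (Or.inr d_facts.1)
  -- some involution of `V` other than `c` has a fixed point
  obtain ⟨d, hd, y, hyO, hy1, hdy⟩ : ∃ d : Mdl, (d = mv ∨ d = mc * mv) ∧ ∃ y ∈ O, y ≠ 1 ∧
      S.phi d * y * (S.phi d)⁻¹ = y := by
    by_contra hno
    have hfree : ∀ d : Mdl, (d = mv ∨ d = mc * mv) → ∀ z ∈ O,
        S.phi d * z * (S.phi d)⁻¹ = z → z = 1 := fun d hd z hz h =>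
      by_contra fun h1 => hno ⟨d, hd, z, hz, h1, h⟩
    have i1 := inverts_of_fixedPointFree O (by rw [← map_mul, hvv, map_one]) hnv (hfree _ (Or.inl rfl))
    have i2 := inverts_of_fixedPointFree O (by
      rw [← map_mul, d_facts.2.1, map_one]) hncv
      (hfree _ (Or.inr rfl))
    have hall : ∀ z ∈ O, ∃ m, m * mf = mf * m ∧ S.phi m = z := by
      intro z hz
      refine hpre z (memO.1 hz).1 ?_
      have h := i2 z hz
      rw [map_mul] at h
      have hcz : S.phi mc * z⁻¹ * (S.phi mc)⁻¹ = z⁻¹ :=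
        calc _ = S.phi mc * (S.phi mv * z * (S.phi mv)⁻¹) * (S.phi mc)⁻¹ := by rw [i1 z hz]
          _ = S.phi mc * S.phi mv * z * (S.phi mc * S.phi mv)⁻¹ := by group
          _ = z⁻¹ := h
      have h' := mul_inv_eq_iff_eq_mul.1 hcz
      rw [← ht]
      exact (Commute.inv_right_iff.1 (show Commute (S.phi mc) z⁻¹ from h')).eq.symm
    have hle : Nat.card O ≤ 10 := by
      choose pre hp1 hp2 using hall
      rw [← card_cent_mf, ← Nat.card_eq_fintype_card]
      exact Nat.card_le_card_of_injective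
        (fun z : O => (⟨pre z z.2, hp1 z z.2⟩ : {m : Mdl // m * mf = mf * m})) fun x z h => by
          have := congrArg (fun q : {m : Mdl // m * mf = mf * m} => S.phi q.1) h
          simp only [hp2] at this
          exact Subtype.ext this
    have h10 : 10 ∣ Nat.card C := by
      have hsub : Subgroup.centralizer ({mf} : Set Mdl) ≤ C.comap S.phi := by
        intro m hm
        rw [Subgroup.mem_comap, memC, hadef, ← map_mul, ← map_mul,
          Subgroup.mem_centralizer_singleton_iff.1 hm]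
      have h := Subgroup.card_dvd_of_le (Subgroup.map_le_iff_le_comap.2 hsub)
      rw [Subgroup.card_map_of_injective S.inj] at h
      have e : Nat.card (Subgroup.centralizer ({mf} : Set Mdl)) = 10 := by
        rw [← card_cent_mf, ← Nat.card_eq_fintype_card]
        exact Nat.card_congr (Equiv.subtypeEquivRight fun m =>
          Subgroup.mem_centralizer_singleton_iff)
      rwa [e] at h
    have hoddO : Odd (Nat.card O) := by
      refine Nat.not_even_iff_odd.1 fun h => MonoidHom.not_dvd_card_ker_transferSylow Q hQN ?_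
      rw [Subgroup.card_map_of_injective C.subtype_injective] at h
      exact even_iff_two_dvd.1 h
    obtain ⟨r, hr⟩ := h10
    obtain ⟨i, hi⟩ := hoddO
    have := cent_mf_ne_ten S
    change Nat.card C ≠ 10 at this
    omega
  obtain ⟨hya, hyodd⟩ := memO.1 hyO
  have hd2 : d * d = 1 ∧ mc * d = d * mc ∧ (d * mf * d⁻¹ = mf⁻¹) := by
    rcases hd with rfl | rfl
    · exact ⟨hvv, hcv, hinvm⟩
    · exact ⟨d_facts.2.1, d_facts.2.2.1, d_facts.1⟩
  -- the fixed points of `d` are inverted by `c`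
  let Od : Subgroup G := O ⊓ Subgroup.centralizer ({S.phi d} : Set G)
  have hcy : S.phi mc * y * (S.phi mc)⁻¹ = y⁻¹ := by
    refine inverts_of_fixedPointFree Od (by rw [← map_mul, hcc, map_one]) ?_ ?_ y
      (Subgroup.mem_inf.2 ⟨hyO, ?_⟩)
    · intro z hz'
      obtain ⟨hz, hzd⟩ := Subgroup.mem_inf.1 hz'
      refine Subgroup.mem_inf.2 ⟨hnc z hz, ?_⟩
      rw [Subgroup.mem_centralizer_singleton_iff] at hzd ⊢
      have h : Commute (S.phi d) (S.phi mc) := by
        show S.phi d * S.phi mc = S.phi mc * S.phi d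
        rw [← map_mul, ← map_mul, hd2.2.1]
      exact (((h.mul_right (show Commute (S.phi d) z from hzd.symm)).mul_right h.inv_right).eq).symm
    · intro z hz' hzc
      obtain ⟨hz, hzd⟩ := Subgroup.mem_inf.1 hz'
      rw [Subgroup.mem_centralizer_singleton_iff] at hzd
      obtain ⟨m, hm, rfl⟩ := hpre z (memO.1 hz).1
        (by rw [← ht]; exact (mul_inv_eq_iff_eq_mul.1 hzc).symm)
      rw [← map_mul, ← map_mul] at hzd
      have hmd := S.inj hzd
      have hm2 : m * m = 1 := cent_mf_mv m hm (by rcases hd with rfl | rfl <;> [left; right] <;> exact hmd)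
      have ho := (memO.1 hz).2
      rw [orderOf_injective _ S.inj] at ho
      have : orderOf m = 1 := by
        rcases (Nat.dvd_prime Nat.prime_two).1 (orderOf_dvd_of_pow_eq_one (x := m) (n := 2) (by rw [pow_two, hm2]))
          with h | h
        · exact h
        · rw [h] at ho; exact absurd ho (by decide)
      rw [orderOf_eq_one_iff.1 this, map_one]
    · rw [Subgroup.mem_centralizer_singleton_iff]
      exact (mul_inv_eq_iff_eq_mul.1 hdy).symm
  -- move to `C(t)`
  have hg : ∀ ab ∈ gGen, F.g * S.phi ab.2 * F.g⁻¹ = S.phi ab.1 := by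
    intro ab h
    rw [← hF, ← F.conj_gen ab h]
    group
  have e14 := hg (emN 1, emN 4) (by rw [gGen_eq]; simp)
  have e23 := hg (emN 2, emN 3) (by rw [gGen_eq]; simp)
  have e46 := hg (emN 4, emN 6) (by rw [gGen_eq]; simp)
  dsimp only at e14 e23 e46
  have emul : ∀ i j, i < 8 → j < 8 → emN i * emN j = emN (Nat.xor i j) := fun i j hi hj =>
    (emN_xor ⟨i, hi⟩ ⟨j, hj⟩).symm
  have cj : ∀ i j i' j', i < 8 → j < 8 → i' < 8 → j' < 8 →
      F.g * S.phi (emN i) * F.g⁻¹ = S.phi (emN i') → F.g * S.phi (emN j) * F.g⁻¹ = S.phi (emN j') →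
        F.g * S.phi (emN (Nat.xor i j)) * F.g⁻¹ = S.phi (emN (Nat.xor i' j')) := by
    intro i j i' j' hi hj hi' hj' h h'
    rw [← emul i j hi hj, ← emul i' j' hi' hj', map_mul, map_mul, ← h, ← h']
    group
  have e56 : F.g * S.phi (emN 5) * F.g⁻¹ = S.phi (emN 6) :=
    cj 3 6 2 4 (by norm_num) (by norm_num) (by norm_num) (by norm_num) e23 e46
  have e73 : F.g * S.phi (emN 7) * F.g⁻¹ = S.phi (emN 3) :=
    cj 4 3 1 2 (by norm_num) (by norm_num) (by norm_num) (by norm_num) e14 e23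
  have e25 : F.g * S.phi (emN 2) * F.g⁻¹ = S.phi (emN 5) :=
    cj 4 6 1 4 (by norm_num) (by norm_num) (by norm_num) (by norm_num) e14 e46
  have e17 : F.g * S.phi (emN 1) * F.g⁻¹ = S.phi (emN 7) := by
    have h := cj 2 3 5 2 (by norm_num) (by norm_num) (by norm_num) (by norm_num) e25 e23
    exact h
  obtain ⟨W, i, hi56, hWd, hWc, hWf⟩ : ∃ (W : G) (i : ℕ), (i = 5 ∨ i = 6) ∧
      W * S.phi mc * W⁻¹ = S.phi d ∧ W * S.phi (emN i) * W⁻¹ = S.phi mc ∧
      ((i = 5 ∧ W = F.g * (F.g * F.g)) ∨ (i = 6 ∧ W = F.g * F.g)) := by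
    have hmc : mc = emN 1 := d_facts.2.2.2.1
    rcases hd with rfl | rfl
    · refine ⟨_, 5, Or.inl rfl, ?_, ?_, Or.inl ⟨rfl, rfl⟩⟩
      · rw [d_facts.2.2.2.2.1, hmc, ← e23, ← e73, ← e17]; group
      · rw [hmc, ← e14, ← e46, ← e56]; group
    · refine ⟨_, 6, Or.inr rfl, ?_, ?_, Or.inr ⟨rfl, rfl⟩⟩
      · rw [d_facts.2.2.2.2.2, hmc, ← e73, ← e17]; group
      · rw [hmc, ← e14, ← e46]; group
  obtain ⟨m, hm⟩ : ∃ m, S.phi m = W⁻¹ * y * W := by
    refine S.exists_pre ?_
    have hdy' := mul_inv_eq_iff_eq_mul.1 hdy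
    rw [← hWd] at hdy'
    rw [← ht]
    calc W⁻¹ * y * W * S.phi mc = W⁻¹ * (y * (W * S.phi mc * W⁻¹)) * W := by group
      _ = W⁻¹ * (W * S.phi mc * W⁻¹ * y) * W := by rw [hdy']
      _ = S.phi mc * (W⁻¹ * y * W) := by group
  have hym : y = W * S.phi m * W⁻¹ := by rw [hm]; group
  have hm1 : m ≠ 1 := fun h => hy1 (by rw [hym, h, map_one]; group)
  have homy : orderOf y = orderOf m := by
    rw [hym, show W * S.phi m * W⁻¹ = MulAut.conj W (S.phi m) from rfl, MulEquiv.orderOf_eq,
      orderOf_injective _ S.inj]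
  have hm3 : m ^ 3 = 1 := by
    rcases cent_orders m with h | h | ⟨h, h'⟩
    · exact h
    · exfalso
      have hy5 : orderOf y = 5 := homy.trans (orderOf_eq_prime h hm1)
      have hyP : IsPGroup 5 (Subgroup.zpowers y) :=
        IsPGroup.of_card (n := 1) (by rw [Nat.card_zpowers, hy5, pow_one])
      have ha5 : orderOf a = 5 := orderOf_eq_prime (by rw [hadef, ← map_pow, h5, map_one])
        fun h' => h1 (S.inj (h'.trans (map_one _).symm))
      have haP : IsPGroup 5 (Subgroup.zpowers a) :=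
        IsPGroup.of_card (n := 1) (by rw [Nat.card_zpowers, ha5, pow_one])
      by_cases hmem : y ∈ Subgroup.zpowers a
      · obtain ⟨k, hk⟩ := hmem
        simp only at hk
        have hkeep : S.phi mc * y * (S.phi mc)⁻¹ = y := by
          rw [← hk, (Commute.zpow_right (memC.1 hcC) k).eq, mul_inv_cancel_right]
        rw [hkeep] at hcy
        have : orderOf y ∣ 2 := orderOf_dvd_of_pow_eq_one (by rw [pow_two]; nth_rw 2 [hcy]; rw [mul_inv_cancel])
        rw [hy5] at this
        omega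
      · have hnorm' : Subgroup.zpowers y ≤ Subgroup.normalizer ((Subgroup.zpowers a : Subgroup G) : Set G) := by
          rw [Subgroup.zpowers_le]
          refine Subgroup.mem_normalizer_iff.2 fun z => ?_
          have hz' : ∀ k : ℤ, y * a ^ k * y⁻¹ = a ^ k := fun k => by
            rw [(Commute.zpow_right hya k).eq, mul_inv_cancel_right]
          constructor
          · rintro ⟨k, rfl⟩; exact ⟨k, (hz' k).symm⟩
          · rintro ⟨k, hk⟩
            refine ⟨k, ?_⟩
            simp only at hk ⊢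
            exact (mul_left_cancel (mul_right_cancel (hk.symm.trans (hz' k).symm))).symm
        have hJ := hyP.to_sup_of_normal_right' haP hnorm'
        obtain ⟨n, hn⟩ := IsPGroup.iff_card.1 hJ
        have hlt : Subgroup.zpowers a < Subgroup.zpowers y ⊔ Subgroup.zpowers a :=
          lt_of_le_of_ne le_sup_right fun h =>
            hmem (h.symm ▸ Subgroup.mem_sup_left (Subgroup.mem_zpowers y))
        have h25 : 2 ≤ n := by
          by_contra hn2
          have := Set.ncard_lt_ncard (SetLike.coe_ssubset_coe.2 hlt) (Set.toFinite _)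
          rw [← Nat.card_coe_set_eq, ← Nat.card_coe_set_eq] at this
          change Nat.card (Subgroup.zpowers a) < Nat.card (Subgroup.zpowers y ⊔ Subgroup.zpowers a : Subgroup G) at this
          rw [Nat.card_zpowers, ha5, hn] at this
          interval_cases n <;> norm_num at this
        exact twenty_five_not_dvd (card_eq S)
          ((pow_dvd_pow 5 h25).trans (hn ▸ Subgroup.card_subgroup_dvd_card _))
    · exfalso
      have : orderOf (m ^ 15) = 2 := orderOf_eq_prime (by rw [pow_two, h]) h'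
      have hdvd : (2 : ℕ) ∣ orderOf y := this ▸ homy ▸ orderOf_pow_dvd 15
      exact absurd (even_iff_two_dvd.2 hdvd) (Nat.not_even_iff_odd.2 hyodd)
  have hminv : emN i * m * (emN i)⁻¹ = m⁻¹ := by
    apply S.inj
    rw [map_mul, map_mul, map_inv, map_inv, hm]
    calc S.phi (emN i) * (W⁻¹ * y * W) * (S.phi (emN i))⁻¹
        = W⁻¹ * ((W * S.phi (emN i) * W⁻¹) * y * (W * S.phi (emN i) * W⁻¹)⁻¹) * W := by group
      _ = W⁻¹ * y⁻¹ * W := by rw [hWc, hcy]
      _ = (W⁻¹ * y * W)⁻¹ := by group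
  have hcomm : ∀ w : List ℕ, (m = wordM w ∨ m⁻¹ = wordM w) →
      W * F.ι (wordM w) * W⁻¹ * F.ι mf = F.ι mf * (W * F.ι (wordM w) * W⁻¹) := by
    intro w hw
    rw [hF]
    have hyc : Commute (W * S.phi m * W⁻¹) a := hym ▸ hya
    rcases hw with h | h <;> rw [← h]
    · exact hyc.eq
    · rw [map_inv, show W * (S.phi m)⁻¹ * W⁻¹ = (W * S.phi m * W⁻¹)⁻¹ by group]
      exact hyc.inv_left.eq
  obtain ⟨n1, n2, n3, n4, -⟩ := word_inverses
  rcases hWf with ⟨rfl, rfl⟩ | ⟨rfl, rfl⟩
  · have hp1 : prodw F.gl [8, 8, 8] = F.g * (F.g * F.g) := by simp [prodw, Frame.gl]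
    have hp2 : prodw F.gl [9, 9, 9] = (F.g * (F.g * F.g))⁻¹ := by
      simp [prodw, Frame.gl, mul_assoc]
    rcases (inverted_three m hm3 hm1).1 hminv with h | h | h | h
    · exact ⟨0, by norm_num, prodw_loop F _ _ _ hp1 hp2 _ _ (by decide) (by decide) n1 (hcomm _ (Or.inl h))⟩
    · exact ⟨0, by norm_num, prodw_loop F _ _ _ hp1 hp2 _ _ (by decide) (by decide) n1 (hcomm _ (Or.inr h))⟩
    · exact ⟨1, by norm_num, prodw_loop F _ _ _ hp1 hp2 _ _ (by decide) (by decide) n2 (hcomm _ (Or.inl h))⟩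
    · exact ⟨1, by norm_num, prodw_loop F _ _ _ hp1 hp2 _ _ (by decide) (by decide) n2 (hcomm _ (Or.inr h))⟩
  · have hp1 : prodw F.gl [8, 8] = F.g * F.g := by simp [prodw, Frame.gl]
    have hp2 : prodw F.gl [9, 9] = (F.g * F.g)⁻¹ := by simp [prodw, Frame.gl]
    rcases (inverted_three m hm3 hm1).2 hminv with h | h | h | h
    · exact ⟨2, by norm_num, prodw_loop F _ _ _ hp1 hp2 _ _ (by decide) (by decide) n3 (hcomm _ (Or.inl h))⟩
    · exact ⟨2, by norm_num, prodw_loop F _ _ _ hp1 hp2 _ _ (by decide) (by decide) n3 (hcomm _ (Or.inr h))⟩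
    · exact ⟨3, by norm_num, prodw_loop F _ _ _ hp1 hp2 _ _ (by decide) (by decide) n4 (hcomm _ (Or.inl h))⟩
    · exact ⟨3, by norm_num, prodw_loop F _ _ _ hp1 hp2 _ _ (by decide) (by decide) n4 (hcomm _ (Or.inr h))⟩

end CfsgLib.JOneUnique
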