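import Cfsg.Agent.JOneUnique.Generate

/-!
Uniqueness of `J₁` from the centralizer of an involution.
-/

set_option autoImplicit false

namespace CfsgLib.JOneUnique

open CfsgLib.CosetEnum CfsgLib.MTwelveUnique CfsgLib.J1Order

/-- Two simple groups with such an involution centralizer are isomorphic. -/
theorem nonempty_mulEquiv {G H : Type*} [Group G] [Finite G] [IsSimpleGroup G] [Group H] [Finite H]
    [IsSimpleGroup H] (S : Setting G) (T : Setting H) : Nonempty (G ≃* H) := by
  obtain ⟨S', F, hF⟩ := exists_frame S
  obtain ⟨T', F', hF'⟩ := exists_frame T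
  obtain ⟨k, hk, hk'⟩ := exists_candidate S' F hF
  obtain ⟨l, hl, hl'⟩ := exists_candidate T' F' hF'
  obtain rfl : k = 3 := by
    rcases Nat.lt_or_ge k 3 with h | h
    · exact absurd hk' (F.loop_ge_three h)
    · omega
  obtain rfl : l = 3 := by
    rcases Nat.lt_or_ge l 3 with h | h
    · exact absurd hl' (F'.loop_ge_three h)
    · omega
  exact Frame.nonempty_equiv F F' hk' hl' (closure_eq_top S' F hF) (closure_eq_top T' F' hF')
    (card_eq S') (card_eq T')

end CfsgLib.JOneUnique
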