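import Cfsg.Agent.MTwelveUnique.Checker

set_option autoImplicit false

/-!
Letters: `v x c u g` are `0 2 4 6 8`, the next number stands for the inverse. Here `v = (01)(23)`,
`x = (012)`, `u = (01)(34)` generate `A₅`, `c` is central and `g` has order seven.
-/

namespace CfsgLib.JOneUnique

/-- Relations inside the centralizer. -/
def modelRels : List (List ℕ) :=
  [[0, 0], [4, 4], [6, 6], [2, 2, 2], [1, 1], [5, 5], [7, 7], [4, 0, 4, 0], [4, 2, 4, 3], [4, 6, 4, 6], [0, 2, 0, 2, 0, 2], [0, 6, 0, 6, 0, 6], [2, 6, 2, 6], [0, 2, 6, 0, 2, 6, 0, 2, 6, 0, 2, 6, 0, 2, 6], [2, 0, 6, 2, 0, 6, 2, 0, 6, 2, 0, 6, 2, 0, 6], [0, 2, 0, 3, 6, 0, 2, 0, 3, 6, 0, 2, 0, 3, 6, 0, 2, 0, 3, 6, 0, 2, 0, 3, 6]]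

/-- Relations of the element of order seven. -/
def sevenRels : List (List ℕ) :=
  [[8, 8, 8, 8, 8, 8, 8], [9, 4, 8, 2, 1, 3], [9, 0, 8, 5, 1], [9, 2, 0, 3, 8, 3, 1, 2], [2, 8, 3, 9, 9]]

/-- The candidate commutation relations. -/
def candRels : List (List ℕ) :=
  [[8, 8, 8, 0, 3, 0, 6, 9, 9, 9, 0, 2, 6, 8, 8, 8, 7, 1, 2, 1, 9, 9, 9, 7, 3, 1], [8, 8, 8, 0, 6, 0, 2, 9, 9, 9, 0, 2, 6, 8, 8, 8, 3, 1, 7, 1, 9, 9, 9, 7, 3, 1], [8, 8, 0, 2, 0, 6, 9, 9, 0, 2, 6, 8, 8, 7, 1, 3, 1, 9, 9, 7, 3, 1], [8, 8, 0, 6, 0, 3, 9, 9, 0, 2, 6, 8, 8, 2, 1, 7, 1, 9, 9, 7, 3, 1]]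

/-- Relations of a configuration with candidate `k`. -/
def relsOf (k : ℕ) : List (List ℕ) := modelRels ++ sevenRels ++ [candRels.getD k []]

/-- Generators of the centralizer. -/
def subs : List (List ℕ) := [[0], [2], [4], [6]]

/-- A word for each member of the centralizer. -/
def allWords : List (List ℕ) :=
  [[], [0], [2], [3], [4], [6], [0, 2], [0, 3], [0, 4], [0, 6], [2, 0], [2, 4], [2, 6], [3, 0], [3, 4], [3, 6], [4, 6], [6, 0], [0, 2, 0], [0, 2, 4], [0, 2, 6], [0, 3, 0], [0, 3, 4], [0, 3, 6], [0, 4, 6], [0, 6, 0], [2, 0, 3], [2, 0, 4], [2, 0, 6], [2, 4, 6], [2, 6, 0], [3, 0, 2], [3, 0, 4], [3, 0, 6], [3, 4, 6], [3, 6, 0], [4, 6, 0], [6, 0, 2], [6, 0, 3], [0, 2, 0, 4], [0, 2, 0, 6], [0, 2, 4, 6], [0, 2, 6, 0], [0, 3, 0, 4], [0, 3, 0, 6], [0, 3, 4, 6],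 [0, 3, 6, 0], [0, 4, 6, 0], [0, 6, 0, 2], [0, 6, 0, 3], [2, 0, 3, 4], [2, 0, 3, 6], [2, 0, 4, 6], [2, 0, 6, 0], [2, 4, 6, 0], [2, 6, 0, 2], [2, 6, 0, 3], [3, 0, 2, 4], [3, 0, 2, 6], [3, 0, 4, 6], [3, 0, 6, 0], [3, 4, 6, 0], [3, 6, 0, 2], [3, 6, 0, 3], [4, 6, 0, 2], [4, 6, 0, 3], [0, 2, 0, 4, 6], [0, 2, 0, 6, 0], [0, 2, 4, 6, 0], [0, 2, 6, 0, 2], [0, 2, 6, 0, 3], [0, 3, 0, 4, 6], [0, 3, 0, 6, 0], [0, 3, 4, 6, 0], [0, 3, 6, 0, 2], [0, 3, 6, 0, 3], [0, 4, 6, 0, 2], [0, 4, 6, 0, 3], [2, 0, 3, 4, 6], [2, 0, 3, 6, 0], [2, 0, 4, 6, 0], [2, 0, 6, 0, 2], [2, 0, 6, 0, 3], [2, 4, 6, 0, 2], [2, 4, 6, 0, 3], [3, 0, 2, 4, 6], [3, 0, 2, 6, 0], [3, 0, 4, 6, 0], [3, 0, 6, 0, 2], [3, 0, 6, 0, 3], [3, 4, 6, 0, 2], [3, 4, 6, 0, 3], [0, 2, 0, 4, 6, 0], [0, 2, 0, 6, 0, 2], [0, 2,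 0, 6, 0, 3], [0, 2, 4, 6, 0, 2], [0, 2, 4, 6, 0, 3], [0, 3, 0, 4, 6, 0], [0, 3, 0, 6, 0, 2], [0, 3, 0, 6, 0, 3], [0, 3, 4, 6, 0, 2], [0, 3, 4, 6, 0, 3], [2, 0, 3, 4, 6, 0], [2, 0, 3, 6, 0, 2], [2, 0, 3, 6, 0, 3], [2, 0, 4, 6, 0, 2], [2, 0, 4, 6, 0, 3], [3, 0, 2, 4, 6, 0], [3, 0, 2, 6, 0, 2], [3, 0, 2, 6, 0, 3], [3, 0, 4, 6, 0, 2], [3, 0, 4, 6, 0, 3], [0, 2, 0, 4, 6, 0, 2], [0, 2, 0, 4, 6, 0, 3], [0, 3, 0, 4, 6, 0, 2], [0, 3, 0, 4, 6, 0, 3], [2, 0, 3, 4, 6, 0, 2], [2, 0, 3, 4, 6, 0, 3], [3, 0, 2, 4, 6, 0, 2], [3, 0, 2, 4, 6, 0, 3]]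

end CfsgLib.JOneUnique
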