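import Mathlib.GroupTheory.SpecificGroups.Alternating
import Mathlib.Data.ZMod.Basic
import Mathlib.Data.Fintype.Prod
import Cfsg.Agent.JOneUnique.Words

/-!
The model `C₂ × A₅` of the centralizer of an involution in `J₁`.
-/

set_option autoImplicit false

namespace CfsgLib.JOneUnique

/-- The model. -/
abbrev Mdl := Multiplicative (ZMod 2) × alternatingGroup (Fin 5)

/-- The involution `(01)(23)`. -/
def mv : Mdl :=
  (1, ⟨Equiv.swap 0 1 * Equiv.swap 2 3, Equiv.Perm.mem_alternatingGroup.2 (by decide +kernel)⟩)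

/-- The element `(012)`. -/
def mx : Mdl :=
  (1, ⟨Equiv.swap 0 1 * Equiv.swap 1 2, Equiv.Perm.mem_alternatingGroup.2 (by decide +kernel)⟩)

/-- The involution `(01)(34)`. -/
def mu : Mdl :=
  (1, ⟨Equiv.swap 0 1 * Equiv.swap 3 4, Equiv.Perm.mem_alternatingGroup.2 (by decide +kernel)⟩)

/-- The central involution. -/
def mc : Mdl := (Multiplicative.ofAdd 1, 1)

/-- Value of a letter other than `g`. -/
def letM : ℕ → Mdl
  | 0 => mv | 1 => mv | 2 => mx | 3 => mx⁻¹ | 4 => mc | 5 => mc | 6 => mu | 7 => mu | _ => 1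

/-- Value of a word without `g`. -/
def wordM (w : List ℕ) : Mdl := (w.map letM).prod

/-- Generators of the elementary group of order 8 with their images under conjugation by `g`. -/
def gGen : List (Mdl × Mdl) :=
  [(mc, wordM [2, 0, 3]), (mv, wordM [0, 4]), (wordM [2, 0, 3], wordM [3, 0, 2])]

theorem modelRels_eq_one : ∀ w ∈ modelRels, wordM w = 1 := by decide +kernel

theorem letters_small : ∀ w ∈ modelRels, ∀ x ∈ w, x < 8 := by decide +kernel

theorem allWords_cover : ∀ m : Mdl, ∃ w ∈ allWords, wordM w = m := by decide +kernel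

theorem allWords_small : ∀ w ∈ allWords, ∀ x ∈ w, x < 8 := by decide +kernel

theorem mdl_card : Nat.card Mdl = 120 := by
  rw [Nat.card_eq_fintype_card]; decide +kernel

end CfsgLib.JOneUnique
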